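import Cfsg.Agent.Signalizer.Main
import Cfsg.Agent.Signalizer.Corollaries
import Cfsg.Agent.Fusion.Basic
import Cfsg.Agent.Fusion.SignalizerTrivial
import Cfsg.Agent.Cores.PCore
import Cfsg.Agent.Coprime.Basic
import Cfsg.Agent.H39.Basic
import Cfsg.Agent.S0205
import Cfsg.Agent.S0542

/-!
# An abelian Sylow 2-subgroup with semiregular automizer and two classes of involutions

If the core is trivial the Sylow 2-subgroup is normal and self-centralising: the cores of the
centralisers of its involutions generate an odd normal subgroup, and a subgroup containing all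
these centralisers and the normaliser is the whole group.
-/

set_option autoImplicit false
set_option linter.style.haveILetI false

namespace Cfsg.Agent.H62.WA

open Subgroup Cfsg.Agent
open scoped commutatorElement

universe u

local instance fact_two_abelian : Fact (Nat.Prime 2) := ⟨Nat.prime_two⟩

variable {M : Type u} [Group M] [Finite M]

/-- With two classes of involutions, `N(P)` and the centralisers of the involutions of `P`
generate. -/
theorem eq_top_of_two_classes (P : Sylow 2 M)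
    (hab : ∀ x ∈ (P : Subgroup M), ∀ y ∈ (P : Subgroup M), x * y = y * x)
    (hsq : ∀ x ∈ (P : Subgroup M), x * x = 1) {i j : M} (hi : i ∈ (P : Subgroup M))
    (hj : j ∈ (P : Subgroup M)) (hi1 : i ≠ 1) (hj1 : j ≠ 1)
    (hij : ∀ g ∈ normalizer ((P : Subgroup M) : Set M), g * i * g⁻¹ ≠ j) {H : Subgroup M}
    (hN : normalizer ((P : Subgroup M) : Set M) ≤ H)
    (hC : ∀ p ∈ (P : Subgroup M), p ≠ 1 → centralizer ({p} : Set M) ≤ H) : H = ⊤ := by
  have hPH : (P : Subgroup M) ≤ H := le_normalizer.trans hN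
  have hPc : (P : Subgroup M) ≤ centralizer ((P : Subgroup M) : Set M) := fun x hx =>
    mem_centralizer_iff.2 fun y hy => hab y hy x hx
  have hnc : ∀ g : M, g * i * g⁻¹ ≠ j := by
    intro g e
    obtain ⟨n, hn, e'⟩ := Fusion.burnside_fusion_centralizer P (hPc hi) (g := g) (e ▸ hPc hj)
    exact hij n hn (e'.trans e)
  -- involutions of `H`
  have hinvH : ∀ z ∈ H, z * z = 1 → z ≠ 1 → centralizer ({z} : Set M) ≤ H := by
    intro z hz hz2 hz1
    have hp : IsPGroup 2 ↥(zpowers z) := IsPGroup.of_card (n := 1) (by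
      rw [Nat.card_zpowers, pow_one, orderOf_eq_prime (by rw [pow_two, hz2]) hz1])
    obtain ⟨c, hc⟩ := H39.exists_conj_le_sylow (hp.comap_subtype (K := H)) (P.subtype hPH)
    have hcz : (c : M) * z * (c : M)⁻¹ ∈ (P : Subgroup M) := hc ⟨z, hz⟩ (mem_zpowers z)
    intro y hy
    have h1 : (c : M) * y * (c : M)⁻¹ ∈ H := by
      refine hC _ hcz (fun e => hz1 ?_) (mem_centralizer_singleton_iff.2 ?_)
      · simpa [mul_assoc] using congrArg (fun w => (c : M)⁻¹ * w * c) e
      · have h3 := mem_centralizer_singleton_iff.1 hy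
        calc (c : M) * y * (c : M)⁻¹ * (c * z * (c : M)⁻¹) = c * (y * z) * (c : M)⁻¹ := by group
          _ = c * (z * y) * (c : M)⁻¹ := by rw [h3]
          _ = c * z * (c : M)⁻¹ * (c * y * (c : M)⁻¹) := by group
    simpa [mul_assoc] using mul_mem (mul_mem (inv_mem c.2) h1) c.2
  -- the conjugates of `j` lie in `H`
  have hconj : ∀ g : M, g * j * g⁻¹ ∈ H := by
    intro g
    set y := g * j * g⁻¹ with hy
    have hy2 : y * y = 1 := by
      rw [hy, show g * j * g⁻¹ * (g * j * g⁻¹) = g * (j * j) * g⁻¹ by group, hsq j hj, mul_one,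
        mul_inv_cancel]
    have hi2 := hsq i hi
    set d := i * y with hd
    have hidi : i * d * i = d⁻¹ := by
      rw [hd, mul_inv_rev, inv_eq_of_mul_eq_one_right hy2, inv_eq_of_mul_eq_one_right hi2,
        ← mul_assoc, hi2, one_mul]
    have hpow : ∀ k : ℕ, i * d ^ k * i = (d ^ k)⁻¹ := fun k => by
      induction k with
      | zero => simpa using hi2
      | succ k ih =>
        calc i * d ^ (k + 1) * i = (i * d ^ k * i) * (i * d * i) := by
              rw [pow_succ]
              calc i * (d ^ k * d) * i = i * d ^ k * 1 * d * i := by group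
                _ = i * d ^ k * (i * i) * d * i := by rw [hi2]
                _ = i * d ^ k * i * (i * d * i) := by group
          _ = (d ^ k)⁻¹ * d⁻¹ := by rw [ih, hidi]
          _ = (d ^ (k + 1))⁻¹ := by rw [pow_succ']; group
    have hord : d ^ orderOf d = 1 := pow_orderOf_eq_one d
    rcases Nat.even_or_odd (orderOf d) with ⟨k, hk⟩ | ⟨k, hk⟩
    · set z := d ^ k with hz
      have hz2 : z * z = 1 := by rw [hz, ← pow_add, ← hk, hord]
      have hz1 : z ≠ 1 := fun e => by
        have h1 := orderOf_dvd_of_pow_eq_one e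
        have h3 : 0 < orderOf d := orderOf_pos d
        have h4 := Nat.le_of_dvd (by omega) h1
        omega
      have hiz : z * i = i * z := by
        have h1 := hpow k
        rw [inv_eq_of_mul_eq_one_right hz2] at h1
        calc z * i = i * z * i * i := by rw [h1]
          _ = i * z := by rw [mul_assoc (i * z), hi2, mul_one]
      have hzy : y * z = z * y := by
        have e : y = i * d := by rw [hd, ← mul_assoc, hi2, one_mul]
        rw [e, mul_assoc, (Commute.self_pow d k).eq, ← mul_assoc, ← hiz, mul_assoc]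
      exact hinvH z (hC i hi hi1 (mem_centralizer_singleton_iff.2 hiz)) hz2 hz1
        (mem_centralizer_singleton_iff.2 hzy)
    · exfalso
      refine hnc (g⁻¹ * d ^ k) ?_
      have h1 : (d ^ k)⁻¹ = i * d ^ k * i := (hpow k).symm
      have h3 : d ^ k * i * (d ^ k)⁻¹ = y := by
        have e1 : d ^ k * d ^ k * d = 1 := by
          rw [← pow_add, ← pow_succ, show k + k + 1 = orderOf d by omega, hord]
        calc d ^ k * i * (d ^ k)⁻¹ = d ^ k * (i * i) * d ^ k * i := by rw [h1]; group
          _ = d ^ k * d ^ k * i := by rw [hi2, mul_one]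
          _ = d⁻¹ * i := by rw [eq_inv_of_mul_eq_one_left e1]
          _ = y := by
            rw [hd, mul_inv_rev, mul_assoc, inv_mul_cancel, mul_one,
              inv_eq_of_mul_eq_one_right hy2]
      calc g⁻¹ * d ^ k * i * (g⁻¹ * d ^ k)⁻¹ = g⁻¹ * (d ^ k * i * (d ^ k)⁻¹) * g := by group
        _ = j := by rw [h3, hy]; group
  -- Frattini
  set Nj := Subgroup.normalClosure ({j} : Set M) with hNj
  have hNjH : Nj ≤ H := by
    refine (closure_le _).2 fun w hw => ?_
    obtain ⟨a, ha, hcw⟩ := Group.mem_conjugatesOfSet_iff.1 hw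
    rw [Set.mem_singleton_iff.1 ha] at hcw
    obtain ⟨g, rfl⟩ := isConj_iff.1 hcw
    exact hconj g
  obtain ⟨Q, hQ⟩ := Cfsg.Agent.S0542.result 2 Nj (Subgroup.Normal.isSubnormal inferInstance) P
  set D := (Q : Subgroup ↥Nj).map Nj.subtype with hD
  have hDP : D ≤ (P : Subgroup M) := by
    rintro _ ⟨q, hq, rfl⟩
    rw [hQ] at hq
    exact hq
  have hjD : j ∈ D := by
    have hjN : j ∈ Nj := subset_normalClosure rfl
    exact ⟨⟨j, hjN⟩, by rw [hQ]; exact hj, rfl⟩
  have hCD : centralizer (D : Set M) ≤ H :=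
    (centralizer_le (Set.singleton_subset_iff.2 hjD)).trans (hC j hj hj1)
  have hND : normalizer (D : Set M) ≤ H := by
    intro g hg
    set C := centralizer (D : Set M) with hCdef
    have hPC : (P : Subgroup M) ≤ C := fun x hx =>
      mem_centralizer_iff.2 fun y hy => hab y (hDP hy) x hx
    have hgP : ((P : Subgroup M).map (MulAut.conj g).toMonoidHom) ≤ C := by
      rintro _ ⟨x, hx, rfl⟩
      refine mem_centralizer_iff.2 fun y hy => ?_
      have h1 : g⁻¹ * y * g ∈ D := (mem_normalizer_iff.1 hg _).2 (by simpa [mul_assoc] using hy)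
      have h3 := mem_centralizer_iff.1 (hPC hx) _ h1
      show y * (g * x * g⁻¹) = g * x * g⁻¹ * y
      calc y * (g * x * g⁻¹) = g * (g⁻¹ * y * g * x) * g⁻¹ := by group
        _ = g * (x * (g⁻¹ * y * g)) * g⁻¹ := by rw [h3]
        _ = g * x * g⁻¹ * y := by group
    obtain ⟨c, hc⟩ := H39.exists_conj_le_sylow
      ((P.isPGroup'.map (MulAut.conj g).toMonoidHom).comap_subtype (K := C)) (P.subtype hPC)
    have hcg : (c : M) * g ∈ normalizer ((P : Subgroup M) : Set M) :=
      H39.mem_normalizer_of_conj_mem fun x hx => by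
        have h1 : (c : M) * (g * x * g⁻¹) * (c : M)⁻¹ ∈ (P : Subgroup M) :=
          hc ⟨_, hgP ⟨x, hx, rfl⟩⟩ (H39.conj_mem_map_conj hx)
        simpa [mul_assoc] using h1
    simpa using mul_mem (inv_mem (hCD c.2)) (hN hcg)
  exact top_le_iff.1 ((Sylow.normalizer_sup_eq_top Q).ge.trans (sup_le hND hNjH))

/-- The Sylow 2-subgroup is normal and self-centralising. -/
theorem normal_of_semiregular (P : Sylow 2 M)
    (hab : ∀ x ∈ (P : Subgroup M), ∀ y ∈ (P : Subgroup M), x * y = y * x)
    (hsq : ∀ x ∈ (P : Subgroup M), x * x = 1) (h8 : 8 ≤ Nat.card (P : Subgroup M))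
    (hO : Cfsg.pPrimeCore 2 M = ⊥)
    (hfix : ∀ g ∈ normalizer ((P : Subgroup M) : Set M), ∀ p ∈ (P : Subgroup M), p ≠ 1 →
      g * p = p * g → ∀ q ∈ (P : Subgroup M), g * q = q * g)
    {i j : M} (hi : i ∈ (P : Subgroup M)) (hj : j ∈ (P : Subgroup M)) (hi1 : i ≠ 1) (hj1 : j ≠ 1)
    (hij : ∀ g ∈ normalizer ((P : Subgroup M) : Set M), g * i * g⁻¹ ≠ j) :
    normalizer ((P : Subgroup M) : Set M) = ⊤ ∧
      centralizer ((P : Subgroup M) : Set M) ≤ (P : Subgroup M) := by
  have hel : Cfsg.IsElementaryAbelian 2 (P : Subgroup M) :=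
    ⟨⟨⟨fun x y => Subtype.ext (hab x x.2 y y.2)⟩⟩, fun x hx => by rw [pow_two, hsq x hx]⟩
  have hPc : ∀ p ∈ (P : Subgroup M), (P : Subgroup M) ≤ centralizer ({p} : Set M) := fun p hp x hx =>
    mem_centralizer_singleton_iff.2 (hab x hx p hp)
  set θ : M → Subgroup M := fun p => Cfsg.centralizerPPrimeCore 2 p with hθ
  have hodd : ∀ p, ¬ 2 ∣ Nat.card (θ p) := fun p => H47.not_dvd_centralizerPPrimeCore p
  -- the centralisers have normal 2-complements
  have hkey : ∀ p ∈ (P : Subgroup M), p ≠ 1 → centralizer ({p} : Set M) ≤ θ p ⊔ (P : Subgroup M) ∧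
      ∀ x ∈ centralizer ({p} : Set M), Odd (orderOf x) → x ∈ θ p := by
    intro p hp hp1
    set C := centralizer ({p} : Set M) with hC
    set P' := P.subtype (hPc p hp)
    have hNC : normalizer ((P' : Subgroup ↥C) : Set ↥C) ≤
        centralizer ((P' : Subgroup ↥C) : Set ↥C) := by
      intro g hg
      refine mem_centralizer_iff.2 fun q hq => Subtype.ext ?_
      have hgN : (g : M) ∈ normalizer ((P : Subgroup M) : Set M) :=
        H39.mem_normalizer_of_conj_mem fun x hx => mem_subgroupOf.1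
          ((mem_normalizer_iff.1 hg ⟨x, hPc p hp hx⟩).1 (mem_subgroupOf.2 hx))
      exact (hfix g hgN p hp hp1 (mem_centralizer_singleton_iff.1 g.2) q
        (mem_subgroupOf.1 hq)).symm
    have hcomp := MonoidHom.ker_transferSylow_isComplement' P' hNC
    set K := (MonoidHom.transferSylow P' hNC).ker
    have hK2 : ¬ 2 ∣ Nat.card K := Fusion.not_dvd_card_of_isComplement' P' hcomp
    have hKθ : K.map C.subtype ≤ θ p := map_mono (le_sSup ⟨inferInstance,
      (Nat.prime_two.coprime_iff_not_dvd.2 hK2).symm⟩)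
    refine ⟨fun x hx => ?_, fun x hx hxo => hKθ ?_⟩
    · obtain ⟨⟨k, q⟩, e⟩ := hcomp.2 ⟨x, hx⟩
      rw [show x = (k : ↥C) * (q : ↥C) from congrArg Subtype.val e.symm]
      exact mul_mem (mem_sup_left (hKθ (mem_map_of_mem _ k.2)))
        (mem_sup_right (mem_subgroupOf.1 q.2))
    · refine ⟨⟨x, hx⟩, ?_, rfl⟩
      have h1 : K.index = Nat.card (P' : Subgroup ↥C) := hcomp.symm.index_eq_card
      have h3 : (⟨x, hx⟩ : ↥C) ^ K.index ∈ K := K.pow_index_mem _
      obtain ⟨n, hn⟩ := IsPGroup.iff_card.1 P'.isPGroup'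
      rw [h1, hn] at h3
      have hxo' : Odd (orderOf (⟨x, hx⟩ : ↥C)) := by rwa [Subgroup.orderOf_mk]
      have hcop : (orderOf (⟨x, hx⟩ : ↥C)).Coprime (2 ^ n) :=
        (Nat.coprime_two_right.2 hxo').pow_right n
      obtain ⟨m, hm⟩ := exists_pow_eq_self_of_coprime hcop.symm
      exact hm ▸ pow_mem h3 m
  have hθn : ∀ p ∈ (P : Subgroup M), (P : Subgroup M) ≤ normalizer (θ p : Set M) := fun p hp =>
    (hPc p hp).trans (H47.centralizer_le_normalizer_core p)
  have hsf : Cfsg.IsSolvableSignalizerFunctor 2 (P : Subgroup M) θ :=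
    ⟨⟨fun p _ _ => H47.centralizerPPrimeCore_le p, fun p _ _ => hodd p,
      fun p hp _ b hb x hx => Coprime.conj_mem (hθn p hp hb) hx,
      fun p _ _ b hb hb1 x ⟨hx, hxb⟩ => (hkey b hb hb1).2 x hxb
        (Odd.of_dvd_nat (Nat.not_even_iff_odd.1 fun he => hodd p he.two_dvd)
          (orderOf_dvd_natCard _ hx))⟩,
      fun p _ _ => Cfsg.Agent.S0205.result (Nat.not_even_iff_odd.1 fun he => hodd p he.two_dvd)⟩
  obtain ⟨hWodd, -, -⟩ :=
    Signalizer.closure_spec_of_closed (Signalizer.twoColourClosed 2) hel (by simpa using h8) hsf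
  set W := Cfsg.signalizerClosure (P : Subgroup M) θ with hW
  have hθW : ∀ p ∈ (P : Subgroup M), p ≠ 1 → θ p ≤ W := fun p hp hp1 =>
    le_iSup (fun y : {y : M // y ∈ (P : Subgroup M) ∧ y ≠ 1} => θ y.1) ⟨p, hp, hp1⟩
  have hNW : normalizer ((P : Subgroup M) : Set M) ≤ normalizer (W : Set M) := by
    intro n hn
    refine Coprime.mem_normalizer_of_map_conj (eq_of_le_of_card_ge ?_
      (by rw [Coprime.card_map_conj]))
    rw [hW, Cfsg.signalizerClosure, Subgroup.map_iSup]
    refine iSup_le fun p => ?_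
    rw [hθ, ← Fusion.Signalizer.centralizerPPrimeCore_conj]
    exact hθW _ ((mem_normalizer_iff.1 hn p.1).1 p.2.1) fun he' => p.2.2 (by
      simpa [mul_assoc] using congrArg (fun t => n⁻¹ * t * n) he')
  have htop := eq_top_of_two_classes P hab hsq hi hj hi1 hj1 hij (H := normalizer (W : Set M)) hNW
    fun p hp hp1 => (hkey p hp hp1).1.trans
      (sup_le ((hθW p hp hp1).trans le_normalizer) (le_normalizer.trans hNW))
  have hW1 : W = ⊥ := by
    refine le_bot_iff.1 (hO ▸ le_sSup ⟨normalizer_eq_top_iff.1 htop, ?_⟩)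
    exact (Nat.prime_two.coprime_iff_not_dvd.2 hWodd).symm
  have hCP : ∀ p ∈ (P : Subgroup M), p ≠ 1 → centralizer ({p} : Set M) ≤ (P : Subgroup M) :=
    fun p hp hp1 => (hkey p hp hp1).1.trans
      (sup_le ((hθW p hp hp1).trans (hW1.le.trans bot_le)) le_rfl)
  exact ⟨eq_top_of_two_classes P hab hsq hi hj hi1 hj1 hij le_rfl
    fun p hp hp1 => (hCP p hp hp1).trans le_normalizer,
    (centralizer_le (Set.singleton_subset_iff.2 hj)).trans (hCP j hj hj1)⟩

end Cfsg.Agent.H62.WA
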