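import Cfsg.Agent.H62.WA.Good
import Cfsg.Agent.H77.WA.FourCentDefs
import Cfsg.Agent.H48.WA.Inner
import Cfsg.Agent.H21.WA.LinkBasic
import Cfsg.Agent.Components.PLocal
import Cfsg.Agent.PGroups.Basic

/-!
# Strongly closed four-groups, `|C_S(e)| = 16`: the frame

`C(t) ∩ N(A)`, `t` toral, is transitive on `A#`; conjugating the element of `FourCent` by such
elements gives all translations of `T` along `A`, so every element of `T ∖ A` is toral and a Sylow
2-subgroup `P` of their group has order 64.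
-/

set_option autoImplicit false
set_option linter.style.haveILetI false

namespace Cfsg.Agent.H62.WA

open Subgroup Cfsg.Agent
open Cfsg.Agent.H88.Walter (Bb)
open Cfsg.Agent.H21.Walter (coreImage coreProj)
open Cfsg.Agent.H77.WA
open Cfsg.Agent.H10.Walter (AbSyl)
open Cfsg.Agent.H48.WA (twistGroup mem_twistGroup)
open scoped commutatorElement

universe u

local instance fact_two_frame : Fact (Nat.Prime 2) := ⟨Nat.prime_two⟩

/-- An isomorphism carries the core into the core. -/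
theorem map_pPrimeCore_equiv_le {p : ℕ} {X Y : Type*} [Group X] [Group Y] (e : X ≃* Y) :
    (Cfsg.pPrimeCore p X).map e.toMonoidHom ≤ Cfsg.pPrimeCore p Y := by
  rw [map_le_iff_le_comap]
  refine sSup_le fun N hN => map_le_iff_le_comap.1 (le_sSup ⟨hN.1.map _ e.surjective, ?_⟩)
  rw [card_map_of_injective (f := e.toMonoidHom) e.injective]
  exact hN.2

/-- An isomorphism carries the core onto the core. -/
theorem map_pPrimeCore_of_equiv {p : ℕ} {X Y : Type*} [Group X] [Group Y] (e : X ≃* Y) :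
    (Cfsg.pPrimeCore p X).map e.toMonoidHom = Cfsg.pPrimeCore p Y :=
  le_antisymm (map_pPrimeCore_equiv_le e) fun y hy =>
    ⟨e.symm y, map_pPrimeCore_equiv_le e.symm (mem_map_of_mem _ hy), by simp⟩

variable {G : Type u} [Group G] [Finite G] {S : Sylow 2 G} {A T : Subgroup G}

omit [Finite G] in
/-- The centre of an isomorphic group is trivial with it. -/
theorem center_bot_of_equiv {X Y : Type*} [Group X] [Group Y] (e : X ≃* Y) (h : center X = ⊥) :
    center Y = ⊥ := by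
  refine (eq_bot_iff_forall _).2 fun y hy => ?_
  have h1 : e.symm y ∈ center X := mem_center_iff.2 fun x => e.injective (by
    rw [map_mul, map_mul, e.apply_symm_apply]
    exact mem_center_iff.1 hy (e x))
  rw [h, mem_bot] at h1
  simpa using congrArg e h1

/-- `N(A)` permutes the toral involutions. -/
theorem toral_conj {y m : G} (hm : m ∈ normalizer (A : Set G)) (h : Toral A y) :
    Toral A (m * y * m⁻¹) := by
  obtain ⟨⟨hyc, hyo, hyA⟩, L, hL, hcb, hab, v, u, hv, hvL, hv1, hu, huv, hun⟩ := h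
  set y' := m * y * m⁻¹ with hy'
  have hA' : ∀ a, a ∈ A ↔ m * a * m⁻¹ ∈ A := mem_normalizer_iff.1 hm
  have hout : Outer A y' := by
    refine ⟨mem_centralizer_iff.2 fun a ha => ?_, ?_, fun h => hyA ((hA' y).2 h)⟩
    · have h1 : m⁻¹ * a * m ∈ A := (hA' _).2 (by simpa [mul_assoc] using ha)
      have h2 := mem_centralizer_iff.1 hyc _ h1
      calc a * y' = m * (m⁻¹ * a * m * y) * m⁻¹ := by rw [hy']; group
        _ = m * (y * (m⁻¹ * a * m)) * m⁻¹ := by rw [h2]
        _ = y' * a := by rw [hy']; group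
    · rw [hy', ← hyo]
      exact orderOf_injective (MulAut.conj m).toMonoidHom (MulAut.conj m).injective y
  have hmap : (centralizer ({y} : Set G)).map (MulAut.conj m).toMonoidHom =
      centralizer ({y'} : Set G) := by
    ext x
    rw [H39.mem_map_conj, mem_centralizer_singleton_iff, mem_centralizer_singleton_iff, hy']
    constructor <;> intro h1
    · calc x * (m * y * m⁻¹) = m * (m⁻¹ * x * m * y) * m⁻¹ := by group
        _ = m * (y * (m⁻¹ * x * m)) * m⁻¹ := by rw [h1]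
        _ = m * y * m⁻¹ * x := by group
    · calc m⁻¹ * x * m * y = m⁻¹ * (x * (m * y * m⁻¹)) * m := by group
        _ = m⁻¹ * (m * y * m⁻¹ * x) * m := by rw [h1]
        _ = y * (m⁻¹ * x * m) := by group
  let c : ↥(centralizer ({y} : Set G)) ≃* ↥(centralizer ({y'} : Set G)) :=
    ((centralizer ({y} : Set G)).equivMapOfInjective _ (MulAut.conj m).injective).trans
      (MulEquiv.subgroupCongr hmap)
  let e : Bb y ≃* Bb y' := QuotientGroup.congr _ _ c (map_pPrimeCore_of_equiv c)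
  have hc : ∀ x : ↥(centralizer ({y} : Set G)), ((c x : G)) = m * x * m⁻¹ := fun _ => rfl
  have he : ∀ x, e (coreProj y x) = coreProj y' (c x) := fun _ => rfl
  have himg : (coreImage y A).map e.toMonoidHom = coreImage y' A := by
    ext z
    constructor
    · rintro ⟨_, ⟨x, hx, rfl⟩, rfl⟩
      refine ⟨c x, ?_, (he x).symm⟩
      show (c x : G) ∈ A
      rw [hc]
      exact (hA' _).1 hx
    · rintro ⟨x, hx, rfl⟩
      refine ⟨coreProj y (c.symm x), mem_map_of_mem _ (?_ : (c.symm x : G) ∈ A), ?_⟩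
      · rw [hA', ← hc, c.apply_symm_apply]
        exact hx
      · show e _ = _
        rw [he, c.apply_symm_apply]
  set L' := L.map e.toMonoidHom with hL'
  let eL : ↥L ≃* ↥L' := L.equivMapOfInjective e.toMonoidHom e.injective
  have hcomm : ∀ {p q : Bb y}, e p * e q = e q * e p ↔ p * q = q * p := fun {p q} => by
    rw [← map_mul, ← map_mul, e.injective.eq_iff]
  refine ⟨hout, L', ⟨Components.component_map_equiv e hL.1, fun hle => hL.2 fun a ha => ?_⟩,
    center_bot_of_equiv eL hcb, ?_, e v, e u, himg ▸ mem_map_of_mem _ hv, mem_map_of_mem _ hvL,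
    by simpa using hv1, mem_map_of_mem _ hu, huv.map e, fun hmem => hun ?_⟩
  · refine mem_centralizer_iff.2 fun l hl => hcomm.1 ?_
    exact mem_centralizer_iff.1 (hle (himg ▸ mem_map_of_mem _ ha)) (e l) (mem_map_of_mem _ hl)
  · refine hab.surj (QuotientGroup.map (center ↥L) (center ↥L') eL.toMonoidHom fun x _ => ?_) ?_
    · rw [mem_comap, center_bot_of_equiv eL hcb, mem_bot]
      have hx : x ∈ center ↥L := ‹_›
      rw [hcb, mem_bot] at hx
      rw [hx, map_one]
    · intro z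
      induction z using QuotientGroup.induction_on with
      | H l => exact ⟨(eL.symm l : ↥L), by simp⟩
  · refine mem_centralizer_iff.2 fun a ha => hcomm.1 ?_
    exact mem_centralizer_iff.1 hmem (e a) (himg ▸ mem_map_of_mem _ ha)

/-- `N(A) ∩ C(t)` is transitive on `A#` for a toral `t`. -/
theorem exists_rotation (htf : TypeFacts.{u}) (hB : BarStruct.{u}) (h2 : TwoCfg S A) {t : G}
    (ht : Toral A t) {a b : G} (ha : a ∈ A) (hb : b ∈ A) (ha1 : a ≠ 1) (hb1 : b ≠ 1) :
    ∃ g ∈ normalizer (A : Set G), g * t = t * g ∧ g * a * g⁻¹ = b := by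
  obtain ⟨⟨htc, hto, htA⟩, L, hL, hcb, hab, -⟩ := ht
  have hc := h2.cfg
  set Ab := coreImage t A with hAb
  have hel := coreImage_elementary hc.elem t
  have hs : Struct Ab := hB G S A hc t htc hto
  have hAt : A ≤ centralizer ({t} : Set G) := fun x hx =>
    mem_centralizer_singleton_iff.2 (mem_centralizer_iff.1 htc x hx)
  have hinj : ∀ {x z : G} (hx : x ∈ A) (hz : z ∈ A),
      coreProj t ⟨x, hAt hx⟩ = coreProj t ⟨z, hAt hz⟩ → x = z := fun {x z} hx hz e => by
    have h1 : coreProj t (⟨x, hAt hx⟩⁻¹ * ⟨z, hAt hz⟩) = 1 := by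
      rw [map_mul, map_inv, e, inv_mul_cancel]
    exact congrArg Subtype.val (inv_mul_eq_one.1 (H21.Walter.coreProj_injOn hc.elem
      (show ((⟨x, hAt hx⟩⁻¹ * ⟨z, hAt hz⟩ : ↥(centralizer ({t} : Set G))) : G) ∈ A from
        mul_mem (inv_mem hx) hz) h1))
  have hcard : Nat.card Ab ≤ 4 := by
    rw [← h2.card, hAb, coreImage]
    exact (Nat.le_of_dvd Nat.card_pos (Subgroup.card_map_dvd _ _)).trans
      (Nat.card_congr (subgroupOfEquivOfLe hAt).toEquiv).le
  -- the image of `A` is a Sylow subgroup of `L`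
  have hAL : Ab ≤ L := by
    have h4 := hs.four L hL
    have hbot : Ab ⊓ centralizer (L : Set (Bb t)) = ⊥ := by
      have h1 : 0 < Nat.card ↥(Ab ⊓ centralizer (L : Set (Bb t))) := Nat.card_pos
      exact Subgroup.eq_bot_of_card_eq _ (by omega)
    exact (hs.split L hL).trans (sup_le inf_le_right (hbot.le.trans bot_le))
  obtain ⟨T0, hT0⟩ := ((H47.isPGroup_of_elementaryAbelian hel).comap_subtype :
    IsPGroup 2 ↥(Ab.subgroupOf L)).exists_le_sylow
  set π := QuotientGroup.mk' (center ↥L)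
  have hπi : Function.Injective π := by
    rw [← MonoidHom.ker_eq_bot_iff, QuotientGroup.ker_mk', hcb]
  set Tq : Sylow 2 (Quot L) := T0.mapSurjective (QuotientGroup.mk'_surjective _)
  have hAT : AType (Quot L) := (hs.type L hL).resolve_right fun h => h.2.2.2 hab
  have hpiece := (htf.ab _ hAT Tq).piece
  have hT0A : ∀ s ∈ (T0 : Subgroup ↥L), (s : Bb t) ∈ Ab := fun s hs' => by
    have h3 : s * s ∈ center ↥L :=
      (QuotientGroup.eq_one_iff _).1 ((map_mul π s s).trans (hpiece.sq _ ⟨s, hs', rfl⟩))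
    have h5 := (hs.image L hL T0 hT0 s hs').1 h3
    rw [hcb, sup_bot_eq] at h5
    exact h5
  obtain ⟨k', hk', hkt⟩ := hpiece.cyc
  obtain ⟨k, rfl⟩ := QuotientGroup.mk'_surjective (center ↥L) k'
  have hπT : ∀ x : ↥L, π x ∈ (Tq : Subgroup (Quot L)) ↔ x ∈ (T0 : Subgroup ↥L) := fun x =>
    ⟨fun ⟨y, hy, e⟩ => hπi e ▸ hy, fun h => ⟨x, h, rfl⟩⟩
  have hne : ∀ {x : G} (hx : x ∈ A), x ≠ 1 →
      π ⟨coreProj t ⟨x, hAt hx⟩, hAL (H88.Walter.coreImage_mem _ hx)⟩ ≠ 1 := fun {x} hx hx1 e => by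
    have h1 := congrArg Subtype.val (hπi (e.trans (map_one π).symm))
    exact hx1 (hinj hx (one_mem A) (h1.trans (map_one (coreProj t)).symm))
  have hmem : ∀ {x : G} (hx : x ∈ A),
      π ⟨coreProj t ⟨x, hAt hx⟩, hAL (H88.Walter.coreImage_mem _ hx)⟩ ∈
        (Tq : Subgroup (Quot L)) := fun {x} hx =>
    ⟨_, hT0 (mem_subgroupOf.2 (H88.Walter.coreImage_mem _ hx)), rfl⟩
  obtain ⟨i, hi⟩ := hkt _ (hmem ha) _ (hmem hb) (hne ha ha1) (hne hb hb1)
  rw [← map_pow, ← map_mul, ← map_inv, ← map_mul] at hi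
  have hi' := congrArg Subtype.val (hπi hi)
  set z : Bb t := (k : Bb t) ^ i with hz
  -- the image of `A` is normalised
  have hzN : z ∈ normalizer ((coreImage t A : Subgroup (Bb t)) : Set (Bb t)) := by
    refine H39.mem_normalizer_of_conj_mem fun x hx => ?_
    have hxT : (⟨x, hAL hx⟩ : ↥L) ∈ (T0 : Subgroup ↥L) := hT0 (mem_subgroupOf.2 hx)
    have h1 := (mem_normalizer_iff.1 (pow_mem hk' i) _).1 ((hπT _).2 hxT)
    rw [← map_pow, ← map_mul, ← map_inv, ← map_mul, hπT] at h1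
    exact hT0A _ h1
  change z ∈ normalizer (((A.subgroupOf (centralizer ({t} : Set G))).map
    (QuotientGroup.mk' (Cfsg.pPrimeCore 2 ↥(centralizer ({t} : Set G)))) :
      Subgroup (Bb t)) : Set (Bb t)) at hzN
  have hA'p : IsPGroup 2 ↥(A.subgroupOf (centralizer ({t} : Set G))) :=
    (H47.isPGroup_of_elementaryAbelian hc.elem).comap_subtype
  rw [← Components.map_normalizer_of_coprime _ Cores.coprime_card_pPrimeCore hA'p] at hzN
  obtain ⟨g, hgN, hgz⟩ := hzN
  have hgA : ∀ x ∈ A, (g : G) * x * (g : G)⁻¹ ∈ A := fun x hx =>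
    (mem_normalizer_iff.1 hgN ⟨x, hAt hx⟩).1 hx
  refine ⟨g, H39.mem_normalizer_of_conj_mem hgA, mem_centralizer_singleton_iff.1 g.2, ?_⟩
  refine hinj (hgA a ha) hb ?_
  rw [show (⟨(g : G) * a * (g : G)⁻¹, hAt (hgA a ha)⟩ : ↥(centralizer ({t} : Set G))) =
    g * ⟨a, hAt ha⟩ * g⁻¹ from rfl, map_mul, map_mul, map_inv,
    show coreProj t g = z from hgz]
  exact hi'

/-- The frame together with its translations. -/
structure FourTrans (A T P : Subgroup G) : Prop where
  two : IsPGroup 2 P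
  card : Nat.card P = 64
  T_le : T ≤ P
  le_shift : P ≤ twistGroup T A
  sq : ∀ p ∈ P, p * p ∈ A
  fix : ∀ t ∈ T, t ∉ A → P ⊓ centralizer ({t} : Set G) = T
  trans : ∀ t ∈ T, t ∉ A → ∀ a ∈ A, ∃ p ∈ P, p * t * p⁻¹ = t * a
  small : ∀ t ∈ T, t ∉ A → ∀ W : Subgroup G, IsPGroup 2 W → W ≤ centTwo A t → T ≤ W → W = T

/-- `T` and a 2-group of order 64 inducing all translations. -/
theorem exists_frame (htf : TypeFacts.{u}) (hB : BarStruct.{u}) (h2 : TwoCfg S A)
    (hall : AllToral A) (h4 : FourCent A) :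
    ∃ T P : Subgroup G, FourFrame A T ∧ FourTrans A T P := by
  obtain ⟨T, hTel, hAT, hT16, hsm, n, ⟨hnc, hnN⟩, hn1, hn2⟩ := h4.exists_frame
  have hcomm : ∀ x ∈ T, ∀ y ∈ T, x * y = y * x := fun x hx y hy =>
    congrArg Subtype.val (hTel.1.is_comm.comm ⟨x, hx⟩ ⟨y, hy⟩)
  have hTc : T ≤ centralizer (A : Set G) := fun x hx =>
    mem_centralizer_iff.2 fun y hy => hcomm y (hAT hy) x hx
  have hout : ∀ t ∈ T, t ∉ A → Outer A t := fun t ht htA =>
    ⟨hTc ht, orderOf_eq_prime (hTel.2 t ht) fun e => htA (e ▸ one_mem A), htA⟩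
  have hTct : ∀ t ∈ T, T ≤ centTwo A t := fun t ht => le_inf hTc fun x hx =>
    mem_centralizer_singleton_iff.2 (hcomm x hx t ht)
  have hTp : IsPGroup 2 T := H47.isPGroup_of_elementaryAbelian hTel
  have hbig : ∀ t ∈ T, Toral A t → ∀ W : Subgroup G, IsPGroup 2 W → W ≤ centTwo A t → T ≤ W →
      W = T := fun t ht hto W hW hWc hTW =>
    (eq_of_le_of_card_ge hTW (hT16 ▸ hsm t ht hto W hW hWc)).symm
  have hns : n ∈ twistGroup T A :=
    ⟨hnN, hn2, fun a ha => (mem_centralizer_iff.1 hnc a ha).symm⟩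
  -- all translations of a toral element
  have htr : ∀ t ∈ T, t ∉ A → Toral A t → ∀ a ∈ A, ∃ k ∈ twistGroup T A,
      k * t * k⁻¹ = t * a := by
    intro t ht htA hto a ha
    rcases eq_or_ne a 1 with rfl | ha1
    · exact ⟨1, one_mem _, by simp⟩
    set a0 := n * t * n⁻¹ * t⁻¹ with ha0
    have ha0A : a0 ∈ A := hn2 t ht
    have ha01 : a0 ≠ 1 := fun e => htA (hn1 t ht
      (mul_inv_eq_iff_eq_mul.1 (mul_inv_eq_one.1 e)))
    obtain ⟨g, hgA, hgt, hga⟩ := exists_rotation htf hB h2 hto ha0A ha ha01 ha1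
    -- move `g` into `N(T)`
    set C := centTwo A t with hC
    have hgC : g ∈ normalizer (C : Set G) := by
      refine inf_normalizer_le_normalizer_inf ⟨?_, le_normalizer
        (mem_centralizer_singleton_iff.2 hgt)⟩
      exact H39.mem_normalizer_of_conj_mem fun x hx => mem_centralizer_iff.2 fun y hy => by
        have h1 : g⁻¹ * y * g ∈ A := (mem_normalizer_iff.1 hgA _).2 (by simpa [mul_assoc] using hy)
        have h3 := mem_centralizer_iff.1 hx _ h1
        calc y * (g * x * g⁻¹) = g * (g⁻¹ * y * g * x) * g⁻¹ := by group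
          _ = g * (x * (g⁻¹ * y * g)) * g⁻¹ := by rw [h3]
          _ = g * x * g⁻¹ * y := by group
    set T' := T.map (MulAut.conj g).toMonoidHom with hT'
    have hT'C : T' ≤ C := by
      rintro _ ⟨x, hx, rfl⟩
      exact (mem_normalizer_iff.1 hgC x).1 (hTct t ht hx)
    obtain ⟨R, hR⟩ := (hTp.comap_subtype (K := C)).exists_le_sylow
    obtain ⟨R', hR'⟩ := ((hTp.map (MulAut.conj g).toMonoidHom).comap_subtype
      (K := C)).exists_le_sylow
    have hRmap : ∀ (R : Sylow 2 ↥C) (U : Subgroup G), Nat.card U = 16 → U ≤ C →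
        U.subgroupOf C ≤ (R : Subgroup ↥C) → (R : Subgroup ↥C).map C.subtype = U := by
      intro R U hU hUC hle
      refine (eq_of_le_of_card_ge ?_ ?_).symm
      · exact (map_subgroupOf_eq_of_le hUC).ge.trans (map_mono hle)
      · rw [hU]
        exact hsm t ht hto _ (R.isPGroup'.map _) (map_subtype_le _)
    have eR := hRmap R T hT16 (hTct t ht) hR
    have eR' := hRmap R' T' (by rw [hT', H39.card_map_conj, hT16]) hT'C hR'
    obtain ⟨c, hc⟩ := MulAction.exists_smul_eq (↥C) R' R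
    have hcg : ∀ x ∈ T, (c : G) * g * x * ((c : G) * g)⁻¹ ∈ T := by
      intro x hx
      have h1 : g * x * g⁻¹ ∈ T' := H39.conj_mem_map_conj hx
      rw [← eR'] at h1
      obtain ⟨w, hw, e⟩ := h1
      have h3 : c * w * c⁻¹ ∈ (R : Subgroup ↥C) := by
        rw [← hc]; exact ⟨w, hw, rfl⟩
      rw [← eR]
      refine ⟨c * w * c⁻¹, h3, ?_⟩
      show (c : G) * (w : G) * (c : G)⁻¹ = _
      rw [show (w : G) = g * x * g⁻¹ from e]
      group
    set h := (c : G) * g with hh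
    have hcA : ∀ x ∈ A, (c : G) * x * (c : G)⁻¹ = x := fun x hx => by
      rw [← mem_centralizer_iff.1 c.2.1 x hx, mul_inv_cancel_right]
    have hhA : ∀ x ∈ A, h * x * h⁻¹ = g * x * g⁻¹ := fun x hx => by
      rw [show h * x * h⁻¹ = (c : G) * (g * x * g⁻¹) * (c : G)⁻¹ by rw [hh]; group]
      exact hcA _ ((mem_normalizer_iff.1 hgA x).1 hx)
    have hht : h * t = t * h := by
      have h1 : (c : G) * t = t * c := mem_centralizer_singleton_iff.1 c.2.2
      rw [hh, mul_assoc, hgt, ← mul_assoc, h1, mul_assoc]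
    have hhN : h ∈ normalizer (T : Set G) := H39.mem_normalizer_of_conj_mem hcg
    have hhA' : h ∈ normalizer (A : Set G) := H39.mem_normalizer_of_conj_mem fun x hx =>
      hhA x hx ▸ (mem_normalizer_iff.1 hgA x).1 hx
    have hpre : ∀ x ∈ T, h⁻¹ * x * h ∈ T := fun x hx =>
      (mem_normalizer_iff.1 hhN _).2 (by simpa [mul_assoc] using hx)
    refine ⟨h * n * h⁻¹, ⟨mul_mem (mul_mem hhN hnN) (inv_mem hhN), fun x hx => ?_, fun x hx => ?_⟩,
      ?_⟩
    · have h3 := (mem_normalizer_iff.1 hhA' _).1 (hn2 _ (hpre x hx))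
      rw [show h * n * h⁻¹ * x * (h * n * h⁻¹)⁻¹ * x⁻¹ =
        h * (n * (h⁻¹ * x * h) * n⁻¹ * (h⁻¹ * x * h)⁻¹) * h⁻¹ by group]
      exact h3
    · have h1 : h⁻¹ * x * h ∈ A :=
        (mem_normalizer_iff.1 hhA' _).2 (by simpa [mul_assoc] using hx)
      have h3 := mem_centralizer_iff.1 hnc _ h1
      calc h * n * h⁻¹ * x = h * (n * (h⁻¹ * x * h)) * h⁻¹ := by group
        _ = h * (h⁻¹ * x * h * n) * h⁻¹ := by rw [h3]
        _ = x * (h * n * h⁻¹) := by group
    · have h1 : h⁻¹ * t * h = t := by rw [mul_assoc, ← hht]; group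
      calc h * n * h⁻¹ * t * (h * n * h⁻¹)⁻¹ = h * (n * (h⁻¹ * t * h) * n⁻¹) * h⁻¹ := by group
        _ = h * (a0 * t) * h⁻¹ := by rw [h1, ha0]; group
        _ = (h * a0 * h⁻¹) * (h * t * h⁻¹) := by group
        _ = a * t := by rw [hhA a0 ha0A, hga, hht, mul_inv_cancel_right]
        _ = t * a := hcomm a (hAT ha) t ht
  have htoral : ∀ t ∈ T, t ∉ A → Toral A t := by
    intro t ht htA
    obtain ⟨a, ha, hta⟩ := hall t (hout t ht htA)
    obtain ⟨k, hk, e⟩ := htr (t * a) (mul_mem ht (hAT ha))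
      (fun h => htA (by simpa using mul_mem h (inv_mem ha))) hta a ha
    have hkA : k ∈ normalizer (A : Set G) := centralizer_le_normalizer _
      (mem_centralizer_iff.2 fun b hb => (hk.2.2 b hb).symm)
    have h1 := toral_conj hkA hta
    rwa [e, mul_assoc, show a * a = 1 by rw [← pow_two]; exact h2.cfg.elem.2 a ha, mul_one] at h1
  have hfix : ∀ t ∈ T, t ∉ A → ∀ W : Subgroup G, IsPGroup 2 W → W ≤ centTwo A t → T ≤ W → W = T :=
    fun t ht htA => hbig t ht (htoral t ht htA)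
  have hKc : twistGroup T A ≤ centralizer (A : Set G) := fun k hk =>
    mem_centralizer_iff.2 fun b hb => (hk.2.2 b hb).symm
  have hTK : T ≤ twistGroup T A := fun x hx => ⟨le_normalizer hx, fun y hy => by
    rw [hcomm x hx y hy, mul_inv_cancel_right, mul_inv_cancel]; exact one_mem _,
    fun b hb => hcomm x hx b (hAT hb)⟩
  set K := twistGroup T A with hK
  haveI hTn : (T.subgroupOf K).Normal := normal_subgroupOf_of_le_normalizer fun k hk => hk.1
  obtain ⟨P0, hP0⟩ := (hTp.comap_subtype (K := K)).exists_le_sylow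
  set P := (P0 : Subgroup ↥K).map K.subtype with hP
  have hPK : P ≤ K := map_subtype_le _
  have hPp : IsPGroup 2 P := P0.isPGroup'.map _
  have hTP : T ≤ P := (map_subgroupOf_eq_of_le hTK).ge.trans (map_mono hP0)
  have hAc : ∀ x ∈ A, ∀ y ∈ A, x * y = y * x := fun x hx y hy => hcomm x (hAT hx) y (hAT hy)
  -- evaluation at `t`
  have hev : ∀ t ∈ T, t ∉ A → ∃ f : ↥K →* ↥A, Function.Surjective f ∧
      ∀ k : ↥K, (f k : G) = (k : G) * t * (k : G)⁻¹ * t⁻¹ := by
    intro t ht htA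
    refine ⟨MonoidHom.mk' (fun k => ⟨(k : G) * t * (k : G)⁻¹ * t⁻¹, k.2.2.1 t ht⟩)
      (fun k l => Subtype.ext ?_), fun a => ?_, fun k => rfl⟩
    · show (k * l : G) * t * (k * l : G)⁻¹ * t⁻¹ =
        (k : G) * t * (k : G)⁻¹ * t⁻¹ * ((l : G) * t * (l : G)⁻¹ * t⁻¹)
      have h1 := l.2.2.1 t ht
      rw [show (k * l : G) * t * (k * l : G)⁻¹ * t⁻¹ =
        (k : G) * ((l : G) * t * (l : G)⁻¹ * t⁻¹) * (k : G)⁻¹ *
          ((k : G) * t * (k : G)⁻¹ * t⁻¹) by group, k.2.2.2 _ h1, mul_inv_cancel_right]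
      exact hAc _ h1 _ (k.2.2.1 t ht)
    · obtain ⟨k, hk, e⟩ := htr t ht htA (htoral t ht htA) a a.2
      refine ⟨⟨k, hk⟩, Subtype.ext ?_⟩
      show k * t * k⁻¹ * t⁻¹ = _
      rw [e, hcomm t ht a (hAT a.2), mul_inv_cancel_right]
  have hPfix : ∀ t ∈ T, t ∉ A → P ⊓ centralizer ({t} : Set G) = T := fun t ht htA =>
    hfix t ht htA _ (hPp.to_le inf_le_left)
      (inf_le_inf_right _ (hPK.trans hKc)) (le_inf hTP ((hTct t ht).trans inf_le_right))
  have htrP : ∀ t ∈ T, t ∉ A → ∀ a ∈ A, ∃ p ∈ P, p * t * p⁻¹ = t * a := by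
    intro t ht htA a ha
    obtain ⟨f, hf, hfe⟩ := hev t ht htA
    have htop : ((P0.mapSurjective hf : Sylow 2 ↥A) : Subgroup ↥A) = ⊤ :=
      ((P0.mapSurjective hf).is_maximal' ((H47.isPGroup_of_elementaryAbelian h2.cfg.elem).to_subgroup
        ⊤) le_top).symm
    have hm : (⟨a, ha⟩ : ↥A) ∈ ((P0.mapSurjective hf : Sylow 2 ↥A) : Subgroup ↥A) :=
      htop ▸ mem_top _
    obtain ⟨k, hk, e⟩ := hm
    refine ⟨k, ⟨k, hk, rfl⟩, ?_⟩
    have e' := congrArg Subtype.val e
    rw [hfe] at e'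
    rw [mul_inv_eq_iff_eq_mul] at e'
    exact e'.trans (hcomm a (hAT ha) t ht)
  obtain ⟨t₀, ht₀, ht₀A⟩ : ∃ t ∈ T, t ∉ A := by
    by_contra hno
    push Not at hno
    have h3 := card_le_of_le hno
    rw [hT16, h2.card] at h3
    omega
  have hP64 : Nat.card P = 64 := by
    obtain ⟨f, hf, hfe⟩ := hev t₀ ht₀ ht₀A
    set φ := f.comp (inclusion hPK) with hφ
    have hsurj : Function.Surjective φ := fun a => by
      obtain ⟨p, hp, e⟩ := htrP t₀ ht₀ ht₀A a a.2
      refine ⟨⟨p, hp⟩, Subtype.ext ?_⟩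
      rw [hφ, MonoidHom.comp_apply, hfe]
      show p * t₀ * p⁻¹ * t₀⁻¹ = _
      rw [e, hcomm t₀ ht₀ a (hAT a.2), mul_inv_cancel_right]
    have hker : φ.ker = T.subgroupOf P := by
      ext p
      rw [MonoidHom.mem_ker, Subtype.ext_iff, hφ, MonoidHom.comp_apply, hfe]
      show (p : G) * t₀ * (p : G)⁻¹ * t₀⁻¹ = 1 ↔ (p : G) ∈ T
      rw [mul_inv_eq_one, mul_inv_eq_iff_eq_mul, ← mem_centralizer_singleton_iff]
      conv_rhs => rw [← hPfix t₀ ht₀ ht₀A]
      exact ⟨fun h => ⟨p.2, h⟩, fun h => h.2⟩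
    rw [← card_mul_index φ.ker, index_ker, MonoidHom.range_eq_top.2 hsurj, card_top, hker,
      Nat.card_congr (subgroupOfEquivOfLe hTP).toEquiv, hT16, h2.card]
  have hsq : ∀ p ∈ P, p * p ∈ A := by
    intro p hp
    have hpK := hPK hp
    have hpp : p * p ∈ T := by
      rw [← hPfix t₀ ht₀ ht₀A]
      refine ⟨mul_mem hp hp, mem_centralizer_singleton_iff.2 ?_⟩
      have h1 := hpK.2.1 t₀ ht₀
      have h3 := hpK.2.2 _ h1
      rw [← mul_inv_eq_iff_eq_mul, show p * p * t₀ * (p * p)⁻¹ =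
        p * (p * t₀ * p⁻¹ * t₀⁻¹) * p⁻¹ * (p * t₀ * p⁻¹ * t₀⁻¹) * t₀ by group, h3,
        mul_inv_cancel_right, ← pow_two, h2.cfg.elem.2 _ h1, one_mul]
    by_contra hA
    have hpT : p ∈ T := by
      rw [← hPfix (p * p) hpp hA]
      exact ⟨hp, mem_centralizer_singleton_iff.2 (mul_assoc p p p).symm⟩
    exact hA (by rw [← pow_two, hTel.2 p hpT]; exact one_mem _)
  refine ⟨T, P, ⟨hTel, hAT, hTc, hT16, hsm, htoral, fun t ht a ha htA => ?_⟩,
    ⟨hPp, hP64, hTP, hPK, hsq, hPfix, htrP, hfix⟩⟩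
  obtain ⟨p, hp, e⟩ := htrP t ht htA a ha
  refine ⟨p, ⟨hKc (hPK hp), (hPK hp).1⟩, fun s hs hps => or_iff_not_imp_left.2 fun hsA => ?_, e⟩
  have hpT : p ∈ T := by
    rw [← hPfix s hs hsA]
    exact ⟨hp, mem_centralizer_singleton_iff.2 hps.eq⟩
  rw [hcomm p hpT t ht, mul_inv_cancel_right] at e
  exact (mul_eq_left.1 e.symm)

end Cfsg.Agent.H62.WA
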