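import Cfsg.Agent.H62.WA.FourSylow
import Cfsg.Agent.H62.WA.FourAbelian

/-!
# Strongly closed four-groups, `|C_S(e)| = 16`: the shape of `C(A)`

`C(A)` modulo `A O(C(A))` has a normal self-centralising Sylow 2-subgroup of order 16, whose
automizer is semiregular as it preserves the translations of `T`.
-/

set_option autoImplicit false
set_option linter.style.haveILetI false

namespace Cfsg.Agent.H62.WA

open Subgroup Cfsg.Agent
open Cfsg.Agent.H77.WA
open scoped commutatorElement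

universe u

local instance fact_two_shape : Fact (Nat.Prime 2) := ⟨Nat.prime_two⟩

variable {G : Type u} [Group G] [Finite G] {S : Sylow 2 G} {A T P : Subgroup G}

/-- `C(A) ∩ N(P)` normalises `T`. -/
theorem FourTrans.norm_T (h2 : TwoCfg S A) (hT : FourFrame A T) (hP : FourTrans A T P) {g : G}
    (hgc : g ∈ centralizer (A : Set G)) (hgN : g ∈ normalizer (P : Set G)) :
    g ∈ normalizer (T : Set G) := by
  by_contra hgT
  obtain ⟨-, -, hperm⟩ := hP.pair h2 hT hgc hgN hgT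
  have hg2 : g * g ∈ normalizer (T : Set G) := by
    rcases hperm (g * g) (mul_mem hgN hgN) (mul_mem hgc hgc) with h | h
    · exact h
    rw [← Coprime.map_conj_map_conj] at h
    exact absurd (mem_normalizer_iff_map_conj_eq.2 (map_injective (MulAut.conj g).injective h)) hgT
  obtain ⟨k, o, ho, hord⟩ := Nat.exists_eq_two_pow_mul_odd (orderOf_pos g).ne'
  -- the 2-part of `g` lies in `P`
  have h1 : g ^ o ∈ normalizer (T : Set G) := by
    refine hP.le_norm ?_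
    have hp : IsPGroup 2 ↥(zpowers (g ^ o)) := by
      refine IsPGroup.of_card (n := k) ?_
      rw [Nat.card_zpowers, orderOf_pow' g ho.pos.ne', hord, Nat.gcd_eq_right (dvd_mul_left o (2 ^ k)),
        Nat.mul_div_cancel _ ho.pos]
    have hoN : zpowers (g ^ o) ≤ normalizer (P : Set G) := zpowers_le.2 (pow_mem hgN o)
    have hU : IsPGroup 2 ↥(P ⊔ zpowers (g ^ o) : Subgroup G) :=
      hP.two.to_sup_of_normal_left' hp hoN
    exact (hP.eq_of_le h2 hT hU le_sup_left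
      (sup_le hP.le_cent (zpowers_le.2 (pow_mem hgc o)))).le (mem_sup_right (mem_zpowers _))
  obtain ⟨m, hm⟩ := ho
  refine hgT ?_
  have h3 : g = ((g * g) ^ m)⁻¹ * g ^ o := by
    rw [hm, pow_succ, pow_mul, pow_two, inv_mul_cancel_left]
  rw [h3]
  exact mul_mem (inv_mem (pow_mem hg2 m)) h1

/-- An element fixing a non-trivial element of `P/A` centralises it up to squares. -/
theorem FourTrans.sq_fix (h2 : TwoCfg S A) (hT : FourFrame A T) (hP : FourTrans A T P) {g : G}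
    (hgc : g ∈ centralizer (A : Set G)) (hgN : g ∈ normalizer (P : Set G)) {p : G} (hp : p ∈ P)
    (hpA : p ∉ A) (hfix : g * p * g⁻¹ * p⁻¹ ∈ A) {q : G} (hq : q ∈ P) :
    g * g * q * (g * g)⁻¹ * q⁻¹ ∈ A := by
  have hgT := hP.norm_T h2 hT hgc hgN
  have hga : ∀ a ∈ A, g * a * g⁻¹ = a := fun a ha => by
    rw [← mem_centralizer_iff.1 hgc a ha, mul_inv_cancel_right]
  have hza : ∀ r ∈ P, ∀ a ∈ A, r * a * r⁻¹ = a := fun r hr a ha => by
    rw [← mem_centralizer_iff.1 (hP.le_cent hr) a ha, mul_inv_cancel_right]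
  have hgP : ∀ r ∈ P, g * r * g⁻¹ ∈ P := fun r hr => (mem_normalizer_iff.1 hgN r).1 hr
  have hgt : ∀ t ∈ T, g * t * g⁻¹ ∈ T := fun t ht => (mem_normalizer_iff.1 hgT t).1 ht
  -- the pairing between `P/T` and `T/A` is invariant
  have hinv : ∀ r ∈ P, ∀ t ∈ T, (g * r * g⁻¹) * (g * t * g⁻¹) * (g * r * g⁻¹)⁻¹ *
      (g * t * g⁻¹)⁻¹ = r * t * r⁻¹ * t⁻¹ := fun r hr t ht => by
    rw [show (g * r * g⁻¹) * (g * t * g⁻¹) * (g * r * g⁻¹)⁻¹ * (g * t * g⁻¹)⁻¹ =
      g * (r * t * r⁻¹ * t⁻¹) * g⁻¹ by group]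
    exact hga _ (hP.comm_mem hr (hP.T_le ht))
  -- from a fixed coset of `A` in `T`
  have hB : ∀ t ∈ T, t ∉ A → g * t * g⁻¹ * t⁻¹ ∈ A → ∀ r ∈ P, g * r * g⁻¹ * r⁻¹ ∈ T := by
    intro t ht htA hgtA r hr
    set a := g * t * g⁻¹ * t⁻¹ with ha
    set r' := g * r * g⁻¹ with hr'
    have e : g * t * g⁻¹ = a * t := by rw [ha]; group
    have h1 := hinv r hr t ht
    rw [e] at h1
    have h3 : r' * t * r'⁻¹ = r * t * r⁻¹ := by
      have h4 : r' * (a * t) * r'⁻¹ * (a * t)⁻¹ = r' * t * r'⁻¹ * t⁻¹ := by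
        rw [show r' * (a * t) * r'⁻¹ * (a * t)⁻¹ =
          (r' * a * r'⁻¹) * (r' * t * r'⁻¹ * t⁻¹) * a⁻¹ by group, hza r' (hgP r hr) a hgtA,
          mem_centralizer_iff.1 (hP.le_cent (mul_mem (mul_mem (mul_mem (hgP r hr) (hP.T_le ht))
            (inv_mem (hgP r hr))) (inv_mem (hP.T_le ht)))) a hgtA, mul_inv_cancel_right]
      rw [h4] at h1
      exact mul_right_cancel h1
    have h5 : r⁻¹ * r' ∈ T := by
      rw [← hP.fix t ht htA]
      refine ⟨P.mul_mem (P.inv_mem hr) (hgP r hr), mem_centralizer_singleton_iff.2 ?_⟩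
      calc r⁻¹ * r' * t = r⁻¹ * (r' * t * r'⁻¹) * r' := by group
        _ = t * (r⁻¹ * r') := by rw [h3]; group
    have h6 := (mem_normalizer_iff.1 (hP.le_norm hr) _).1 h5
    simpa [mul_assoc] using h6
  -- from an element outside `T` fixed modulo `T`
  have hC : ∀ r ∈ P, r ∉ T → g * r * g⁻¹ * r⁻¹ ∈ T → ∀ t ∈ T, g * t * g⁻¹ * t⁻¹ ∈ A := by
    intro r hr hrT hgr t ht
    set v := g * r * g⁻¹ * r⁻¹ with hv
    set t' := g * t * g⁻¹ with ht'
    have ht'T := hgt t ht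
    have e : g * r * g⁻¹ = v * r := by rw [hv]; group
    have h1 := hinv r hr t ht
    rw [e] at h1
    set c := r * t' * r⁻¹ * t'⁻¹
    have h3 : v * r * t' * (v * r)⁻¹ * t'⁻¹ = c := by
      have hcT : c * t' ∈ T := mul_mem (hT.le (hP.comm_mem hr (hP.T_le ht'T))) ht'T
      calc v * r * t' * (v * r)⁻¹ * t'⁻¹ = v * (c * t') * v⁻¹ * t'⁻¹ := by simp only [c]; group
        _ = c * t' * (v * v⁻¹) * t'⁻¹ := by rw [frame_comm hT hgr hcT]; group
        _ = c := by group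
    rw [h3] at h1
    -- `u = t' t⁻¹` commutes with `r`
    set u := t' * t⁻¹ with hu
    have huT : u ∈ T := mul_mem ht'T (inv_mem ht)
    by_contra huA
    refine hrT ?_
    rw [← hP.fix u huT huA]
    refine ⟨hr, mem_centralizer_singleton_iff.2 (mul_inv_eq_iff_eq_mul.1 ?_)⟩
    calc r * u * r⁻¹ = (r * t' * r⁻¹ * t'⁻¹) * t' * ((r * t * r⁻¹ * t⁻¹) * t)⁻¹ := by
          rw [hu]; group
      _ = c * (t' * t⁻¹) * c⁻¹ := by rw [← h1]; simp only [c]; group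
      _ = u := by
        rw [← hu, frame_comm hT (hT.le (hP.comm_mem hr (hP.T_le ht'T))) huT, mul_inv_cancel_right]
  obtain ⟨t₀, ht₀, ht₀A⟩ := frame_exists h2 hT
  obtain ⟨hgT', hgP'⟩ : (∀ t ∈ T, g * t * g⁻¹ * t⁻¹ ∈ A) ∧ ∀ r ∈ P, g * r * g⁻¹ * r⁻¹ ∈ T := by
    by_cases hpT : p ∈ T
    · have hP' := hB p hpT hpA hfix
      obtain ⟨r, hr, hrT⟩ : ∃ r ∈ P, r ∉ T := by
        by_contra hno
        push Not at hno
        have h := card_le_of_le hno
        rw [hP.card, hT.card] at h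
        omega
      exact ⟨hC r hr hrT (hP' r hr), hP'⟩
    · have hT' := hC p hp hpT (hT.le hfix)
      exact ⟨hT', hB t₀ ht₀ ht₀A (hT' t₀ ht₀)⟩
  set v := g * q * g⁻¹ * q⁻¹ with hv
  have hvT : v ∈ T := hgP' q hq
  have hva := hgT' v hvT
  rw [show g * g * q * (g * g)⁻¹ * q⁻¹ = (g * v * g⁻¹ * v⁻¹) * (v * v) by rw [hv]; group,
    frame_sq hT hvT, mul_one]
  exact hva

/-- (a): the Sylow 2-subgroup has order 64 and is normal in `C(A)` modulo the core. -/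
theorem fourShapeStep (htf : TypeFacts.{u}) (hB : BarStruct.{u}) : FourShapeStep.{u} := by
  intro G _ _ S A h2 hall h4
  obtain ⟨T, P, hT, hP⟩ := exists_frame htf hB h2 hall h4
  refine ⟨T, P, hT, ?_⟩
  set C := centralizer (A : Set G) with hCdef
  have hPC : P ≤ C := hP.le_cent
  have hAP : A ≤ P := hT.le.trans hP.T_le
  set O := Cfsg.centralizerSubgroupPPrimeCore 2 A with hO
  set O' := Cfsg.pPrimeCore 2 ↥C
  set A' := A.subgroupOf C
  haveI : A'.Normal := normal_subgroupOf_of_le_normalizer (centralizer_le_normalizer _)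
  haveI : O'.Normal := Cfsg.pPrimeCore_normal 2 _
  set N0 := A' ⊔ O' with hN0
  haveI : N0.Normal := Subgroup.sup_normal A' O'
  have hO'odd : ¬ 2 ∣ Nat.card O' := Cores.not_dvd_card_pPrimeCore
  have hO'O : ∀ x : ↥C, x ∈ O' → (x : G) ∈ O := fun x hx => mem_map_of_mem _ hx
  have hN0mem : ∀ x : ↥C, x ∈ N0 → ∃ a ∈ A, ∃ o ∈ O', (x : G) = a * (o : G) := fun x hx => by
    obtain ⟨a, ha, o, ho, rfl⟩ := mem_sup_of_normal_right.1 hx
    exact ⟨a, mem_subgroupOf.1 ha, o, ho, rfl⟩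
  have hPN0 : ∀ x : ↥C, (x : G) ∈ P → x ∈ N0 → (x : G) ∈ A := by
    intro x hxP hx
    obtain ⟨a, ha, o, ho, e⟩ := hN0mem x hx
    have hoP : (o : G) ∈ P := by
      have := mul_mem (inv_mem (hAP ha)) hxP
      rwa [e, inv_mul_cancel_left] at this
    have h1 : (o : G) = 1 := by
      obtain ⟨k, hk⟩ := hP.two ⟨o, hoP⟩
      exact orderOf_eq_one_iff.1 (Nat.eq_one_of_dvd_coprimes
        (Nat.Coprime.pow_left k (Nat.coprime_two_left.2
          (Nat.not_even_iff_odd.1 fun he => hO'odd he.two_dvd)))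
        (orderOf_dvd_of_pow_eq_one (by simpa using congrArg Subtype.val hk))
        (by rw [Subgroup.orderOf_coe]; exact O'.orderOf_dvd_natCard ho))
    rw [e, h1, mul_one]; exact ha
  -- the Sylow subgroup
  obtain ⟨P0, hP0⟩ := (hP.two.comap_subtype (K := C)).exists_le_sylow
  have hP0map : (P0 : Subgroup ↥C).map C.subtype = P :=
    hP.eq_of_le h2 hT (P0.isPGroup'.map _)
      ((map_subgroupOf_eq_of_le hPC).ge.trans (map_mono hP0)) (map_subtype_le _)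
  have hmemP0 : ∀ x : ↥C, x ∈ (P0 : Subgroup ↥C) ↔ (x : G) ∈ P := fun x =>
    ⟨fun hx => hP0map ▸ mem_map_of_mem _ hx, fun hx => hP0 (mem_subgroupOf.2 hx)⟩
  set π := QuotientGroup.mk' N0 with hπdef
  have hπ : Function.Surjective π := QuotientGroup.mk'_surjective N0
  have hπ1 : ∀ x : ↥C, π x = 1 ↔ x ∈ N0 := fun x => QuotientGroup.eq_one_iff x
  have hπA : ∀ x : ↥C, (x : G) ∈ A → π x = 1 := fun x hx =>
    (hπ1 x).2 (mem_sup_left (mem_subgroupOf.2 hx))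
  set Pb : Sylow 2 (↥C ⧸ N0) := P0.mapSurjective hπ
  have hPb : (Pb : Subgroup (↥C ⧸ N0)) = (P0 : Subgroup ↥C).map π := rfl
  have hab : ∀ x ∈ (Pb : Subgroup (↥C ⧸ N0)), ∀ y ∈ (Pb : Subgroup (↥C ⧸ N0)),
      x * y = y * x := by
    rintro _ ⟨p, hp, rfl⟩ _ ⟨q, hq, rfl⟩
    have h1 : π (p * q * p⁻¹ * q⁻¹) = 1 :=
      hπA _ (hP.comm_mem ((hmemP0 p).1 hp) ((hmemP0 q).1 hq))
    rw [map_mul, map_mul, map_mul, map_inv, map_inv] at h1
    exact mul_inv_eq_iff_eq_mul.1 (mul_inv_eq_one.1 h1)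
  have hsq : ∀ x ∈ (Pb : Subgroup (↥C ⧸ N0)), x * x = 1 := by
    rintro _ ⟨p, hp, rfl⟩
    rw [← map_mul]
    exact hπA _ (hP.sq _ ((hmemP0 p).1 hp))
  have h16 : Nat.card (Pb : Subgroup (↥C ⧸ N0)) = 16 := by
    set f := π.comp (P0 : Subgroup ↥C).subtype
    have hr : f.range = (Pb : Subgroup (↥C ⧸ N0)) := by
      rw [MonoidHom.range_comp, range_subtype]; rfl
    have hk : f.ker = A'.subgroupOf (P0 : Subgroup ↥C) := by
      ext p
      rw [MonoidHom.mem_ker]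
      show π (p : ↥C) = 1 ↔ _
      rw [hπ1, mem_subgroupOf, mem_subgroupOf]
      exact ⟨hPN0 _ ((hmemP0 _).1 p.2), fun h => mem_sup_left (mem_subgroupOf.2 h)⟩
    have h := card_mul_index f.ker
    rw [index_ker, hr, hk] at h
    have hA'P : A' ≤ (P0 : Subgroup ↥C) := fun x hx => (hmemP0 x).2 (hAP (mem_subgroupOf.1 hx))
    have hc0 : Nat.card (P0 : Subgroup ↥C) = 64 := by
      rw [← card_map_of_injective C.subtype_injective, hP0map, hP.card]
    have hcA : Nat.card A' = 4 := by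
      rw [Nat.card_congr (subgroupOfEquivOfLe
        (hT.le.trans (hP.T_le.trans hPC))).toEquiv, h2.card]
    rw [Nat.card_congr (subgroupOfEquivOfLe hA'P).toEquiv, hcA, hc0] at h
    omega
  -- the core of the quotient is trivial
  have hOM : Cfsg.pPrimeCore 2 (↥C ⧸ N0) = ⊥ := by
    set W := Cfsg.pPrimeCore 2 (↥C ⧸ N0)
    haveI : W.Normal := Cfsg.pPrimeCore_normal 2 _
    set Wc := W.comap π
    haveI : Wc.Normal := inferInstance
    have hWodd : ¬ 2 ∣ Nat.card W := Cores.not_dvd_card_pPrimeCore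
    obtain ⟨Q, hQ⟩ := Cfsg.Agent.S0542.result 2 Wc (Subgroup.Normal.isSubnormal inferInstance) P0
    have hQA : ∀ x : ↥Wc, x ∈ (Q : Subgroup ↥Wc) → ((x : ↥C) : G) ∈ A := by
      intro x hx
      rw [hQ, mem_subgroupOf] at hx
      refine hPN0 _ ((hmemP0 _).1 hx) ((hπ1 _).1 ?_)
      obtain ⟨k, hk⟩ := Pb.isPGroup' ⟨π x, hPb ▸ mem_map_of_mem π hx⟩
      exact orderOf_eq_one_iff.1 (Nat.eq_one_of_dvd_coprimes
        (Nat.Coprime.pow_left k (Nat.coprime_two_left.2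
          (Nat.not_even_iff_odd.1 fun he => hWodd he.two_dvd)))
        (orderOf_dvd_of_pow_eq_one (by simpa using congrArg Subtype.val hk))
        (W.orderOf_dvd_natCard (show π x ∈ W from x.2)))
    have hQc : normalizer ((Q : Subgroup ↥Wc) : Set ↥Wc) ≤
        centralizer ((Q : Subgroup ↥Wc) : Set ↥Wc) := fun g _ =>
      mem_centralizer_iff.2 fun q hq => Subtype.ext (Subtype.ext
        (mem_centralizer_iff.1 (g : ↥C).2 _ (hQA q hq)))
    have hcomp := MonoidHom.ker_transferSylow_isComplement' Q hQc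
    set K := (MonoidHom.transferSylow Q hQc).ker
    have hK2 : ¬ 2 ∣ Nat.card K := Fusion.not_dvd_card_of_isComplement' Q hcomp
    have hKO : K.map Wc.subtype ≤ O' :=
      (map_mono (show K ≤ Cfsg.pPrimeCore 2 ↥Wc from le_sSup ⟨inferInstance,
        (Nat.prime_two.coprime_iff_not_dvd.2 hK2).symm⟩)).trans
        (Cores.map_pPrimeCore_le_of_normal Wc)
    refine (eq_bot_iff_forall _).2 fun w hw => ?_
    obtain ⟨x, rfl⟩ := hπ w
    obtain ⟨⟨k, q⟩, e⟩ := hcomp.2 ⟨x, show x ∈ Wc from hw⟩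
    rw [hπ1, show x = ((k : ↥Wc) : ↥C) * ((q : ↥Wc) : ↥C) from congrArg Subtype.val e.symm]
    exact mul_mem (mem_sup_right (hKO (mem_map_of_mem _ k.2)))
      (mem_sup_left (mem_subgroupOf.2 (hQA _ q.2)))
  -- lifting the normaliser
  have hlift : ∀ y ∈ normalizer ((Pb : Subgroup (↥C ⧸ N0)) : Set (↥C ⧸ N0)), ∀ g : ↥C, π g = y →
      ∃ n ∈ N0, n * g ∈ normalizer ((P0 : Subgroup ↥C) : Set ↥C) := by
    intro y hy g hg
    set J := (P0 : Subgroup ↥C) ⊔ N0 with hJ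
    have hJmem : ∀ x, x ∈ J ↔ π x ∈ (Pb : Subgroup (↥C ⧸ N0)) := fun x => by
      rw [hPb, ← mem_comap, comap_map_eq, QuotientGroup.ker_mk']
    have hgP : (P0 : Subgroup ↥C).map (MulAut.conj g).toMonoidHom ≤ J := by
      rintro _ ⟨p, hp, rfl⟩
      rw [hJmem]
      show π (g * p * g⁻¹) ∈ _
      rw [map_mul, map_mul, map_inv, hg]
      exact (mem_normalizer_iff.1 hy _).1 (mem_map_of_mem π hp)
    obtain ⟨c, hc⟩ := H39.exists_conj_le_sylow
      ((P0.isPGroup'.map (MulAut.conj g).toMonoidHom).comap_subtype (K := J))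
      (P0.subtype le_sup_left)
    have hcg : (c : ↥C) * g ∈ normalizer ((P0 : Subgroup ↥C) : Set ↥C) :=
      H39.mem_normalizer_of_conj_mem fun x hx => by
        have h1 : (c : ↥C) * (g * x * g⁻¹) * (c : ↥C)⁻¹ ∈ (P0 : Subgroup ↥C) :=
          hc ⟨_, hgP ⟨x, hx, rfl⟩⟩ (H39.conj_mem_map_conj hx)
        simpa [mul_assoc] using h1
    obtain ⟨p, hp, n, hn, e⟩ := mem_sup_of_normal_right.1 c.2
    refine ⟨n, hn, ?_⟩
    have h3 := mul_mem (inv_mem (le_normalizer hp)) hcg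
    rwa [← e, mul_assoc p n g, inv_mul_cancel_left] at h3
  have hNP0 : ∀ g : ↥C, g ∈ normalizer ((P0 : Subgroup ↥C) : Set ↥C) →
      (g : G) ∈ normalizer (P : Set G) := fun g hg =>
    H39.mem_normalizer_of_conj_mem fun x hx => (hmemP0 _).1
      ((mem_normalizer_iff.1 hg ⟨x, hPC hx⟩).1 ((hmemP0 _).2 hx))
  -- semiregular
  have hfix : ∀ y ∈ normalizer ((Pb : Subgroup (↥C ⧸ N0)) : Set (↥C ⧸ N0)),
      ∀ x ∈ (Pb : Subgroup (↥C ⧸ N0)), x ≠ 1 → y * x = x * y →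
      ∀ z ∈ (Pb : Subgroup (↥C ⧸ N0)), y * z = z * y := by
    intro y hy x hx hx1 hyx z hz
    obtain ⟨p, hp, rfl⟩ := hx
    obtain ⟨g0, hg0⟩ := hπ y
    obtain ⟨n, hn, hng⟩ := hlift y hy g0 hg0
    set g := n * g0
    have hgy : π g = y := by rw [map_mul, (hπ1 n).2 hn, one_mul, hg0]
    have hgN := hNP0 g hng
    have hpA : (p : G) ∉ A := fun h => hx1 (hπA p h)
    have hgp : (g : G) * (p : G) * (g : G)⁻¹ * (p : G)⁻¹ ∈ A := by
      refine hPN0 (g * p * g⁻¹ * p⁻¹) (mul_mem ((mem_normalizer_iff.1 hgN _).1 ((hmemP0 p).1 hp))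
        (inv_mem ((hmemP0 p).1 hp))) ((hπ1 _).1 ?_)
      rw [map_mul, map_mul, map_mul, map_inv, map_inv, hgy, hyx, mul_inv_cancel_right,
        mul_inv_cancel]
    -- `y²` is trivial on `Pb`
    have hy2 : ∀ z ∈ (Pb : Subgroup (↥C ⧸ N0)), y * y * z = z * (y * y) := by
      rintro _ ⟨q, hq, rfl⟩
      have h1 : π (g * g * q * (g * g)⁻¹ * q⁻¹) = 1 :=
        hπA _ (hP.sq_fix h2 hT g.2 hgN ((hmemP0 p).1 hp) hpA hgp ((hmemP0 q).1 hq))
      rw [map_mul, map_mul, map_mul, map_inv, map_inv, map_mul, hgy] at h1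
      exact mul_inv_eq_iff_eq_mul.1 (mul_inv_eq_one.1 h1)
    -- the 2-part lies in `Pb`
    obtain ⟨k, o, ho, hord⟩ := Nat.exists_eq_two_pow_mul_odd (orderOf_pos y).ne'
    have ho2 : y ^ o ∈ (Pb : Subgroup (↥C ⧸ N0)) := by
      have hp' : IsPGroup 2 ↥(zpowers (y ^ o)) := by
        refine IsPGroup.of_card (n := k) ?_
        rw [Nat.card_zpowers, orderOf_pow' y ho.pos.ne', hord,
          Nat.gcd_eq_right (dvd_mul_left o (2 ^ k)), Nat.mul_div_cancel _ ho.pos]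
      have hU := Pb.isPGroup'.to_sup_of_normal_left' hp' (zpowers_le.2 (pow_mem hy o))
      exact (Pb.is_maximal' hU le_sup_left).le (mem_sup_right (mem_zpowers _))
    obtain ⟨m, hm⟩ := ho
    have e : y = ((y * y) ^ m)⁻¹ * y ^ o := by
      rw [hm, pow_succ, pow_mul, pow_two, inv_mul_cancel_left]
    rw [e]
    exact ((Commute.pow_left (hy2 z hz) m).inv_left.mul_left (hab _ ho2 _ hz)).eq
  -- two classes
  obtain ⟨t, ht, htA⟩ := frame_exists h2 hT
  obtain ⟨q, hq, hqT⟩ : ∃ q ∈ P, q ∉ T := by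
    by_contra hno
    push Not at hno
    have h := card_le_of_le hno
    rw [hP.card, hT.card] at h
    omega
  have htP := hP.T_le ht
  set i := π ⟨t, hPC htP⟩ with hi
  set j := π ⟨q, hPC hq⟩ with hj
  have hi1 : i ≠ 1 := fun e => htA (hPN0 _ htP ((hπ1 _).1 e))
  have hj1 : j ≠ 1 := fun e => hqT (hT.le (hPN0 _ hq ((hπ1 _).1 e)))
  have hij : ∀ y ∈ normalizer ((Pb : Subgroup (↥C ⧸ N0)) : Set (↥C ⧸ N0)), y * i * y⁻¹ ≠ j := by
    intro y hy e
    obtain ⟨g0, hg0⟩ := hπ y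
    obtain ⟨n, hn, hng⟩ := hlift y hy g0 hg0
    set g := n * g0
    have hgy : π g = y := by rw [map_mul, (hπ1 n).2 hn, one_mul, hg0]
    have hgN := hNP0 g hng
    have hgT := hP.norm_T h2 hT g.2 hgN
    have h1 : (g : G) * t * (g : G)⁻¹ ∈ T := (mem_normalizer_iff.1 hgT t).1 ht
    have h3 : (g : G) * t * (g : G)⁻¹ * q⁻¹ ∈ A := by
      refine hPN0 (g * ⟨t, hPC htP⟩ * g⁻¹ * ⟨q, hPC hq⟩⁻¹)
        (mul_mem (hP.T_le h1) (inv_mem hq)) ((hπ1 _).1 ?_)
      rw [map_mul, map_mul, map_mul, map_inv, map_inv, hgy, ← hi, ← hj, e, mul_inv_cancel]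
    refine hqT ?_
    have h5 := mul_mem (inv_mem (hT.le h3)) h1
    simpa [mul_assoc] using h5
  obtain ⟨hNtop, hself⟩ := normal_of_semiregular Pb hab hsq (by rw [h16]; norm_num) hOM hfix
    (mem_map_of_mem π ((hmemP0 _).2 htP)) (mem_map_of_mem π ((hmemP0 _).2 hq)) hi1 hj1 hij
  -- `C(A) = O(C(A)) (C(A) ∩ N(P))`
  have hdec : ∀ x ∈ C, ∃ o ∈ O, ∃ m ∈ C ⊓ normalizer (P : Set G), x = o * m := by
    intro x hx
    obtain ⟨n, hn, hng⟩ := hlift (π ⟨x, hx⟩) (hNtop ▸ mem_top _) ⟨x, hx⟩ rfl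
    obtain ⟨o', ho', a, ha, e⟩ := mem_sup_of_normal_left.1
      (show n⁻¹ ∈ O' ⊔ A' from (sup_comm A' O') ▸ inv_mem hn)
    refine ⟨(o' : G), hO'O _ ho', (a : G) * ((n * ⟨x, hx⟩ : ↥C) : G),
      ⟨mul_mem a.2 (n * ⟨x, hx⟩ : ↥C).2,
        mul_mem (le_normalizer (hAP (mem_subgroupOf.1 ha))) (hNP0 _ hng)⟩, ?_⟩
    have e' := congrArg Subtype.val e
    simp only [Subgroup.coe_mul, Subgroup.coe_inv] at e' ⊢
    rw [← mul_assoc, e', inv_mul_cancel_left]
  have hOn : C ≤ normalizer (O : Set G) := Components.le_normalizer_map_subtype _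
  refine ⟨hP.two, hP.card, hP.T_le, hP.le_cent, hP.le_norm, hP.fix, fun x hx => ?_,
    fun x hx hxc => ?_, fun x hx => ?_⟩
  · obtain ⟨o, ho, m, hm, rfl⟩ := hdec x hx
    exact mul_mem (le_normalizer (mem_sup_left ho))
      (Components.inf_normalizer_le_normalizer_sup _ _ ⟨hOn hm.1, hm.2⟩)
  · have h1 : π ⟨x, hx⟩ ∈ centralizer ((Pb : Subgroup (↥C ⧸ N0)) : Set (↥C ⧸ N0)) := by
      refine mem_centralizer_iff.2 ?_
      rintro _ ⟨p, hp, rfl⟩
      obtain ⟨w, hw, e⟩ := hxc p ((hmemP0 p).1 hp)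
      have h3 : π (⟨x, hx⟩ * p * ⟨x, hx⟩⁻¹ * p⁻¹) = 1 :=
        (hπ1 _).2 (mem_sup_right ((show w = ⟨x, hx⟩ * p * ⟨x, hx⟩⁻¹ * p⁻¹ from
          Subtype.ext e) ▸ hw))
      rw [map_mul, map_mul, map_mul, map_inv, map_inv] at h3
      exact (mul_inv_eq_iff_eq_mul.1 (mul_inv_eq_one.1 h3)).symm
    obtain ⟨p, hp, e⟩ := hself h1
    obtain ⟨a, ha, o, ho, e'⟩ := hN0mem (p⁻¹ * ⟨x, hx⟩)
      ((hπ1 _).1 (by rw [map_mul, map_inv, e, inv_mul_cancel]))
    have e'' : x = (p : G) * (a * (o : G)) := by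
      simp only [Subgroup.coe_mul, Subgroup.coe_inv] at e'
      rw [← e', mul_inv_cancel_left]
    rw [e'']
    exact mul_mem (mem_sup_right ((hmemP0 p).1 hp))
      (mul_mem (mem_sup_right (hAP ha)) (mem_sup_left (hO'O _ ho)))
  · obtain ⟨o, ho, m, hm, rfl⟩ := hdec x hx
    exact mul_mem (mem_sup_left ho) (mem_sup_right ⟨hm.1, hP.norm_T h2 hT hm.1 hm.2⟩)

end Cfsg.Agent.H62.WA
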