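import Cfsg.Agent.H25.InvolutionTransfer
import Cfsg.Agent.H36.TwoLocal
import Cfsg.Agent.H39.Basic
import Cfsg.Agent.Coprime.Basic

/-!
# A Sylow 2-subgroup `(E₄ × E₄)⋊⟨x⟩` with `x` interchanging the factors

The involution `x` is conjugate to no element of the base, so there is a subgroup of index 2.
-/

set_option autoImplicit false
set_option linter.style.haveILetI false

namespace Cfsg.Agent.H62.WA

open Subgroup Cfsg.Agent

universe u

local instance fact_two_swap : Fact (Nat.Prime 2) := ⟨Nat.prime_two⟩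

variable {H : Type u} [Group H] [Finite H]

/-- In a group with such a Sylow 2-subgroup there is a normal subgroup of index 2 avoiding `x`. -/
theorem exists_index_two_of_swap (Sb : Sylow 2 H) {Pb Tb : Subgroup H} {x : H}
    (hPS : Pb ≤ (Sb : Subgroup H)) (hPc : Nat.card Pb = 16)
    (hSc : Nat.card (Sb : Subgroup H) = 32) (hab : ∀ p ∈ Pb, ∀ q ∈ Pb, p * q = q * p)
    (hsq : ∀ p ∈ Pb, p * p = 1) (hTP : Tb ≤ Pb) (hTc : Nat.card Tb = 4) (hx : x * x = 1)
    (hxS : x ∈ (Sb : Subgroup H)) (hxP : x ∉ Pb) (hxn : ∀ p ∈ Pb, x * p * x⁻¹ ∈ Pb)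
    (hdisj : ∀ u ∈ Tb, x * u * x⁻¹ ∈ Tb → u = 1) :
    ∃ M : Subgroup H, M.Normal ∧ M.index = 2 ∧ x ∉ M := by
  have hidx : Pb.relIndex (Sb : Subgroup H) = 2 := by
    have h := relIndex_mul_relIndex (⊥ : Subgroup H) Pb (Sb : Subgroup H) bot_le hPS
    rw [relIndex_bot_left, relIndex_bot_left, hPc, hSc] at h
    omega
  have hx2 : orderOf x = 2 :=
    orderOf_eq_prime (by rw [pow_two, hx]) fun e => hxP (e ▸ one_mem _)
  refine (H25.thompson_transfer Sb Pb hPS hidx x hx2 hxS hxP).resolve_right ?_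
  rintro ⟨g, hg⟩
  -- the fixed points of `x` on the base
  set Z := Pb ⊓ centralizer ({x} : Set H) with hZdef
  have hZx : ∀ z ∈ Z, z * x = x * z := fun z hz => mem_centralizer_singleton_iff.1 hz.2
  have hxi : x⁻¹ = x := inv_eq_of_mul_eq_one_right hx
  have hxx : ∀ p : H, x * (x * p * x⁻¹) * x⁻¹ = p := fun p => by
    rw [hxi]
    calc x * (x * p * x) * x = (x * x) * p * (x * x) := by group
      _ = p := by rw [hx, one_mul, mul_one]
  have hfix : ∀ p ∈ Pb, x * (p * (x * p * x⁻¹)) * x⁻¹ = p * (x * p * x⁻¹) := fun p hp => by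
    rw [show x * (p * (x * p * x⁻¹)) * x⁻¹ = (x * p * x⁻¹) * (x * (x * p * x⁻¹) * x⁻¹) by group,
      hxx, hab _ hp _ (hxn p hp)]
  have hZmem : ∀ p ∈ Pb, p * (x * p * x⁻¹) ∈ Z := fun p hp => ⟨mul_mem hp (hxn p hp),
    mem_centralizer_singleton_iff.2 (mul_inv_eq_iff_eq_mul.1 (hfix p hp)).symm⟩
  -- the map `p ↦ p p^x`
  set φ : ↥Pb →* ↥Z := MonoidHom.mk' (fun p => ⟨p * (x * p * x⁻¹), hZmem p p.2⟩) fun p q =>
    Subtype.ext (show (p * q : H) * (x * (p * q) * x⁻¹) =
      p * (x * p * x⁻¹) * (q * (x * q * x⁻¹)) by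
      rw [show x * ((p : H) * q) * x⁻¹ = (x * p * x⁻¹) * (x * q * x⁻¹) by group]
      calc (p : H) * q * (x * p * x⁻¹ * (x * q * x⁻¹))
          = p * (q * (x * p * x⁻¹)) * (x * q * x⁻¹) := by group
        _ = p * ((x * p * x⁻¹) * q) * (x * q * x⁻¹) := by rw [hab _ q.2 _ (hxn p p.2)]
        _ = p * (x * p * x⁻¹) * (q * (x * q * x⁻¹)) := by group) with hφ
  have hker : ∀ p : ↥Pb, φ p = 1 ↔ (p : H) ∈ Z := fun p => by
    rw [Subtype.ext_iff]
    show (p : H) * (x * p * x⁻¹) = 1 ↔ _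
    rw [mul_eq_one_iff_eq_inv', inv_eq_of_mul_eq_one_right (hsq p p.2), mul_inv_eq_iff_eq_mul]
    exact ⟨fun h => ⟨p.2, mem_centralizer_singleton_iff.2 h.symm⟩, fun h => (hZx _ h).symm⟩
  have hTZ : Disjoint Tb Z := disjoint_def.2 fun {u} hu hz => hdisj u hu (by
    rw [← hZx u hz, mul_inv_cancel_right]; exact hu)
  have hZ4 : Nat.card Z = 4 := by
    refine le_antisymm ?_ ?_
    · have h := H36.card_mul_card_le hTP (inf_le_left : Z ≤ Pb)
      rw [hTc, hPc, hTZ.eq_bot, card_bot, ← hZdef] at h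
      omega
    · rw [← hTc]
      refine Nat.card_le_card_of_injective (fun u => φ ⟨u, hTP u.2⟩) fun u v e => ?_
      have e1 : φ (⟨u, hTP u.2⟩ * (⟨v, hTP v.2⟩)⁻¹) = 1 := by
        have e' : φ ⟨u, hTP u.2⟩ = φ ⟨v, hTP v.2⟩ := e
        rw [map_mul, map_inv, e', mul_inv_cancel]
      have h1 := (hker _).1 e1
      exact Subtype.ext (mul_inv_eq_one.1
        (disjoint_def.1 hTZ (mul_mem u.2 (inv_mem v.2)) h1))
  have hsurj : ∀ z ∈ Z, ∃ p ∈ Pb, p * (x * p * x⁻¹) = z := by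
    intro z hz
    have hk : φ.ker = Z.subgroupOf Pb := by
      ext p; rw [MonoidHom.mem_ker, hker, mem_subgroupOf]
    have hr : φ.range = ⊤ := by
      refine Subgroup.eq_top_of_card_eq _ ?_
      have h1 := card_mul_index φ.ker
      rw [index_ker, hk, Nat.card_congr (subgroupOfEquivOfLe (inf_le_left : Z ≤ Pb)).toEquiv, hZ4,
        hPc] at h1
      omega
    obtain ⟨p, hp⟩ := MonoidHom.mem_range.1 (hr ▸ mem_top (⟨z, hz⟩ : ↥Z))
    exact ⟨p, p.2, congrArg Subtype.val hp⟩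
  -- `E = Z⟨x⟩`
  set E := Z ⊔ zpowers x with hE
  have hxE : x ∈ E := mem_sup_right (mem_zpowers x)
  have hZn : zpowers x ≤ normalizer (Z : Set H) := zpowers_le.2 <| centralizer_le_normalizer _
    (mem_centralizer_iff.2 fun z hz => hZx z hz)
  have hEmem : ∀ e ∈ E, e ∈ Z ∨ ∃ z ∈ Z, e = z * x := by
    intro e he
    obtain ⟨z, hz, w, hw, rfl⟩ := (Coprime.mem_sup_iff hZn).1 he
    obtain ⟨k, rfl⟩ := mem_zpowers_iff.1 hw
    have h2 : x ^ (2 : ℤ) = 1 := by rw [zpow_two, hx]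
    rcases Int.even_or_odd k with ⟨r, rfl⟩ | ⟨r, rfl⟩
    · left
      rwa [← two_mul, zpow_mul, h2, one_zpow, mul_one]
    · right
      exact ⟨z, hz, by rw [zpow_add_one, zpow_mul, h2, one_zpow, one_mul]⟩
  have hE8 : Nat.card E = 8 := by
    have hd : Z ⊓ zpowers x = ⊥ := by
      refine (eq_bot_iff_forall _).2 fun y hy => ?_
      obtain ⟨k, rfl⟩ := mem_zpowers_iff.1 hy.2
      have h2 : x ^ (2 : ℤ) = 1 := by rw [zpow_two, hx]
      rcases Int.even_or_odd k with ⟨r, rfl⟩ | ⟨r, rfl⟩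
      · rw [← two_mul, zpow_mul, h2, one_zpow]
      · refine absurd ?_ hxP
        have := hy.1.1
        rwa [zpow_add_one, zpow_mul, h2, one_zpow, one_mul] at this
    rw [hE, Coprime.card_sup hZn hd, Nat.card_zpowers, hx2, hZ4]
  -- `Sb = Pb⟨x⟩`
  have hSmem : ∀ s ∈ (Sb : Subgroup H), s ∈ Pb ∨ ∃ p ∈ Pb, s = p * x := by
    intro s hs
    by_cases hsP : s ∈ Pb
    · exact Or.inl hsP
    refine Or.inr ⟨s * x, ?_, by rw [mul_assoc, hx, mul_one]⟩
    exact (mul_mem_iff_of_index_two (H := Pb.subgroupOf (Sb : Subgroup H)) hidx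
      (a := ⟨s, hs⟩) (b := ⟨x, hxS⟩)).2 ⟨fun h => absurd h hsP, fun h => absurd h hxP⟩
  -- `Sb` normalises `E` and centralises `Z`
  have hPE : ∀ p ∈ Pb, p * x * p⁻¹ = p * (x * p * x⁻¹) * x := fun p hp => by
    rw [inv_eq_of_mul_eq_one_right (hsq p hp)]; group
  have hxNE : x ∈ normalizer (E : Set H) := le_normalizer hxE
  have hPbE : Pb ≤ normalizer (E : Set H) := fun p hp => by
    refine H39.mem_normalizer_of_conj_mem fun e he => ?_
    have hq : ∀ z ∈ Z, p * z * p⁻¹ = z := fun z hz => by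
      rw [hab p hp z hz.1, mul_inv_cancel_right]
    rcases hEmem e he with hz | ⟨z, hz, rfl⟩
    · rw [hq e hz]; exact he
    · rw [show p * (z * x) * p⁻¹ = (p * z * p⁻¹) * (p * x * p⁻¹) by group, hq z hz, hPE p hp]
      exact mul_mem (mem_sup_left hz) (mul_mem (mem_sup_left (hZmem p hp)) hxE)
  have hSE : (Sb : Subgroup H) ≤ normalizer (E : Set H) := fun s hs => by
    rcases hSmem s hs with h | ⟨p, hp, rfl⟩
    · exact hPbE h
    · exact mul_mem (hPbE hp) hxNE
  have hSZ : (Sb : Subgroup H) ≤ centralizer (Z : Set H) := fun s hs =>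
    mem_centralizer_iff.2 fun z hz => by
      rcases hSmem s hs with h | ⟨p, hp, rfl⟩
      · exact hab z hz.1 s h
      · calc z * (p * x) = (z * p) * x := by group
          _ = p * (z * x) := by rw [hab z hz.1 p hp, mul_assoc]
          _ = p * x * z := by rw [hZx z hz, ← mul_assoc]
  -- a 2-element of an overgroup of `Sb` is conjugate into `Sb`
  have hconj : ∀ N : Subgroup H, (Sb : Subgroup H) ≤ N → ∀ g ∈ N, IsPGroup 2 (zpowers g) →
      ∃ c ∈ N, c * g * c⁻¹ ∈ (Sb : Subgroup H) := by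
    intro N hSN g hg hgp
    obtain ⟨c, hc⟩ := H39.exists_conj_le_sylow (hgp.comap_subtype (K := N)) (Sb.subtype hSN)
    exact ⟨c, c.2, hc ⟨g, hg⟩ (mem_zpowers g)⟩
  -- a 2-element of `N(Z)` centralises `Z`
  have hNC : ∀ g ∈ normalizer (Z : Set H), IsPGroup 2 (zpowers g) →
      g ∈ centralizer (Z : Set H) := by
    intro g hg hgp
    obtain ⟨c, hc, h1⟩ := hconj _ (hSZ.trans (centralizer_le_normalizer _)) g hg hgp
    refine mem_centralizer_iff.2 fun z hz => ?_
    have h2 := mem_centralizer_iff.1 (hSZ h1) _ ((mem_normalizer_iff.1 hc z).1 hz)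
    calc z * g = c⁻¹ * ((c * z * c⁻¹) * (c * g * c⁻¹)) * c := by group
      _ = c⁻¹ * ((c * g * c⁻¹) * (c * z * c⁻¹)) * c := by rw [h2]
      _ = g * z := by group
  -- `N(E) ≤ N(Z)`
  have hNE : ∀ d ∈ normalizer (E : Set H), d ∈ normalizer (Z : Set H) := by
    intro d hd
    by_contra hdZ
    set Z' := Z.map (MulAut.conj d).toMonoidHom with hZ'
    have hZE : Z ≤ E := le_sup_left
    have hZ'E : Z' ≤ E := by
      rintro _ ⟨z, hz, rfl⟩
      exact (mem_normalizer_iff.1 hd z).1 (hZE hz)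
    obtain ⟨z0, hz0, hz0'⟩ : ∃ z0 ∈ Z ⊓ Z', z0 ≠ 1 := by
      refine (bot_or_exists_ne_one _).resolve_left fun h0 => ?_
      have h := H36.card_mul_card_le hZE hZ'E
      rw [h0, hZ', H39.card_map_conj, hZ4, hE8, card_bot] at h
      omega
    obtain ⟨e0, he0, he0'⟩ : ∃ e0 ∈ Z, e0 ∉ Z' := by
      by_contra hno
      push Not at hno
      refine hdZ (mem_normalizer_iff_map_conj_eq.2
        (eq_of_le_of_card_ge hno (H39.card_map_conj Z d).le).symm)
    obtain ⟨z1, hz1, e1⟩ : z0 ∈ Z' := hz0.2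
    have e1' : d * z1 * d⁻¹ = z0 := e1
    have he1E : d⁻¹ * e0 * d ∈ E :=
      (mem_normalizer_iff.1 hd _).2 (by simpa [mul_assoc] using hZE he0)
    rcases hEmem _ he1E with hbad | ⟨z, hz, hzx⟩
    · exact he0' ⟨_, hbad, by simp [mul_assoc]⟩
    obtain ⟨p, hp, hpq⟩ := hsurj z1 hz1
    set g := d * p * d⁻¹ with hg
    have hgz0 : g * z0 * g⁻¹ = z0 := by
      rw [hg, ← e1', show d * p * d⁻¹ * (d * z1 * d⁻¹) * (d * p * d⁻¹)⁻¹ =
        d * (p * z1 * p⁻¹) * d⁻¹ by group, hab p hp z1 hz1.1, mul_inv_cancel_right]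
    have hge0 : g * e0 * g⁻¹ = e0 * z0 := by
      calc g * e0 * g⁻¹ = d * (p * (d⁻¹ * e0 * d) * p⁻¹) * d⁻¹ := by rw [hg]; group
        _ = d * ((p * z * p⁻¹) * (p * x * p⁻¹)) * d⁻¹ := by rw [hzx]; group
        _ = d * (z * (z1 * x)) * d⁻¹ := by
          rw [hab p hp z hz.1, mul_inv_cancel_right, hPE p hp, hpq]
        _ = d * (z * x * z1) * d⁻¹ := by rw [hZx z1 hz1, mul_assoc z x z1]
        _ = (d * (d⁻¹ * e0 * d) * d⁻¹) * (d * z1 * d⁻¹) := by rw [hzx]; group
        _ = e0 * z0 := by rw [e1']; group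
    have hz02 : z0 * z0 = 1 := hsq z0 hz0.1.1
    -- `Z` is generated by `e0` and `z0`
    have hgen : Z ≤ closure {e0, z0} := by
      have hle : closure {e0, z0} ≤ Z := by
        rw [closure_le]
        rintro y (rfl | rfl)
        · exact he0
        · exact hz0.1
      refine (eq_of_le_of_card_ge hle ?_).ge
      rw [hZ4]
      have hlt : zpowers z0 < closure {e0, z0} := lt_of_le_of_ne
        (zpowers_le.2 (subset_closure (by simp))) fun h => he0' (by
          have h1 : e0 ∈ zpowers z0 := h.ge (subset_closure (by simp))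
          exact zpowers_le.2 hz0.2 h1)
      obtain ⟨n, hn⟩ := IsPGroup.iff_card.1
        ((Sb.isPGroup'.to_le hPS).to_le (hle.trans inf_le_left) : IsPGroup 2 ↥(closure {e0, z0}))
      have h2 : 2 < Nat.card ↥(closure {e0, z0}) := by
        have ho : orderOf z0 = 2 := orderOf_eq_prime (by rw [pow_two, hz02]) hz0'
        rw [← ho, ← Nat.card_zpowers]
        refine lt_of_le_of_ne (card_le_of_le hlt.le) fun h => hlt.ne
          (eq_of_le_of_card_ge hlt.le h.ge)
      rw [hn] at h2 ⊢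
      rcases n with _ | _ | n
      · simp at h2
      · simp at h2
      · calc 4 = 2 ^ 2 := by norm_num
          _ ≤ 2 ^ (n + 2) := Nat.pow_le_pow_right (by norm_num) (by omega)
    have hgN : g ∈ normalizer (Z : Set H) := by
      refine H39.mem_normalizer_of_conj_mem fun y hy => ?_
      have hsub : closure {e0, z0} ≤ Z.comap (MulAut.conj g).toMonoidHom := by
        rw [closure_le]
        rintro y (rfl | rfl)
        · show g * y * g⁻¹ ∈ Z
          rw [hge0]; exact mul_mem he0 hz0.1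
        · show g * y * g⁻¹ ∈ Z
          rw [hgz0]; exact hz0.1
      exact hsub (hgen hy)
    have hgp : IsPGroup 2 (zpowers g) := by
      have h := (Sb.isPGroup'.to_le hPS).map (MulAut.conj d).toMonoidHom
      exact h.to_le (zpowers_le.2 ⟨p, hp, rfl⟩)
    have h1 := mem_centralizer_iff.1 (hNC g hgN hgp) e0 he0
    rw [← h1, mul_inv_cancel_right] at hge0
    exact hz0' (mul_eq_left.1 hge0.symm)
  -- the 2-elements of `C(E)` lie in `E`
  have hCE : ∀ r ∈ centralizer (E : Set H), IsPGroup 2 (zpowers r) → r ∈ E := by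
    intro r hr hrp
    obtain ⟨c, hc, h1⟩ := hconj _ hSE r (centralizer_le_normalizer _ hr) hrp
    have h2 : c * r * c⁻¹ * x = x * (c * r * c⁻¹) := by
      have he : c⁻¹ * x * c ∈ E :=
        (mem_normalizer_iff.1 hc _).2 (by simpa [mul_assoc] using hxE)
      have h3 := mem_centralizer_iff.1 hr _ he
      calc c * r * c⁻¹ * x = c * (r * (c⁻¹ * x * c)) * c⁻¹ := by group
        _ = c * (c⁻¹ * x * c * r) * c⁻¹ := by rw [h3]
        _ = x * (c * r * c⁻¹) := by group
    refine (mem_normalizer_iff.1 hc r).2 ?_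
    rcases hSmem _ h1 with h | ⟨p, hp, e⟩
    · exact mem_sup_left ⟨h, mem_centralizer_singleton_iff.2 h2⟩
    · rw [e] at h2 ⊢
      refine mul_mem (mem_sup_left ⟨hp, mem_centralizer_singleton_iff.2 ?_⟩) hxE
      rw [mul_assoc p x x, hx, mul_one, ← mul_assoc x p x] at h2
      calc p * x = (x * p * x) * x := by rw [← h2]
        _ = x * p := by rw [mul_assoc (x * p), hx, mul_one]
  -- a 2-element of `C(x)` normalising `E` and outside it
  set U := Pb.map (MulAut.conj g⁻¹).toMonoidHom with hU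
  have hxU : x ∈ U := ⟨_, hg, by simp [mul_assoc]⟩
  have hUC : U ≤ centralizer ({x} : Set H) := fun u hu => by
    obtain ⟨q, hq, e⟩ := id hxU
    obtain ⟨p, hp, rfl⟩ := hu
    rw [mem_centralizer_singleton_iff, ← e, ← map_mul, ← map_mul, hab p hp q hq]
  have hEC : E ≤ centralizer ({x} : Set H) :=
    sup_le inf_le_right (zpowers_le.2 (mem_centralizer_singleton_iff.2 rfl))
  set C := centralizer ({x} : Set H)
  have hEp : IsPGroup 2 E := IsPGroup.of_card (n := 3) (by rw [hE8]; norm_num)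
  obtain ⟨Q, hQ⟩ := (hEp.comap_subtype (K := C)).exists_le_sylow
  obtain ⟨Q', hQ'⟩ := (((Sb.isPGroup'.to_le hPS).map (MulAut.conj g⁻¹).toMonoidHom).comap_subtype
    (K := C)).exists_le_sylow
  set Q1 := (Q : Subgroup ↥C).map C.subtype
  have hlt : E < Q1 := by
    refine lt_of_le_of_ne ((map_subgroupOf_eq_of_le hEC).ge.trans (map_mono hQ)) fun h => ?_
    have h1 : Nat.card U ≤ Nat.card Q1 := by
      rw [Subgroup.card_map_of_injective C.subtype_injective,
        Nat.card_congr (Q.equiv Q').toEquiv,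
        ← Nat.card_congr (subgroupOfEquivOfLe hUC).toEquiv]
      exact card_le_of_le hQ'
    rw [← h, hU, H39.card_map_conj, hPc, hE8] at h1
    omega
  obtain ⟨r, hr, hrE, hrN⟩ :=
    H39.exists_mem_normalizer_not_mem (Q.isPGroup'.map C.subtype) hlt
  have hrp : IsPGroup 2 (zpowers r) := (Q.isPGroup'.map C.subtype).to_le (zpowers_le.2 hr)
  have hrx : r * x = x * r := mem_centralizer_singleton_iff.1 (map_subtype_le _ hr)
  have hrZ := hNC r (hNE r hrN) hrp
  refine hrE (hCE r (mem_centralizer_iff.2 fun e he => ?_) hrp)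
  rcases hEmem e he with hz | ⟨z, hz, rfl⟩
  · exact mem_centralizer_iff.1 hrZ e hz
  · rw [mul_assoc, ← hrx, ← mul_assoc, mem_centralizer_iff.1 hrZ z hz, mul_assoc]

end Cfsg.Agent.H62.WA
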