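import Cfsg.Agent.H62.WA.FourFrame
import Cfsg.Agent.H62.WA.FourSwap
import Cfsg.Agent.Fusion.Basic
import Cfsg.Agent.Fusion.TransferControl

/-!
# Strongly closed four-groups, `|C_S(e)| = 16`: the Sylow 2-subgroup

The group `P` of order 64 is a Sylow 2-subgroup of `C(A)`: otherwise a Sylow 2-subgroup is `P⟨x⟩`
with `x` interchanging the two elementary subgroups of order 16, and as `N(A)` controls fusion,
`G` has a subgroup of index 2.
-/

set_option autoImplicit false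
set_option linter.style.haveILetI false

namespace Cfsg.Agent.H62.WA

open Subgroup Cfsg.Agent
open Cfsg.Agent.H77.WA
open scoped commutatorElement
open Cfsg.Agent.H48.WA (twistGroup mem_twistGroup)

universe u

local instance fact_two_sylow : Fact (Nat.Prime 2) := ⟨Nat.prime_two⟩

variable {G : Type u} [Group G] [Finite G] {S : Sylow 2 G} {A T P : Subgroup G}

omit [Finite G] in
theorem FourTrans.le_cent (hP : FourTrans A T P) : P ≤ centralizer (A : Set G) := fun _ hp =>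
  mem_centralizer_iff.2 fun b hb => ((hP.le_shift hp).2.2 b hb).symm

omit [Finite G] in
theorem FourTrans.le_norm (hP : FourTrans A T P) : P ≤ normalizer (T : Set G) := fun _ hp =>
  (hP.le_shift hp).1

omit [Finite G] in
theorem frame_comm (hT : FourFrame A T) {x y : G} (hx : x ∈ T) (hy : y ∈ T) : x * y = y * x :=
  congrArg Subtype.val (hT.elem.1.is_comm.comm ⟨x, hx⟩ ⟨y, hy⟩)

omit [Finite G] in
theorem frame_sq (hT : FourFrame A T) {x : G} (hx : x ∈ T) : x * x = 1 := by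
  rw [← pow_two]; exact hT.elem.2 x hx

theorem frame_exists (h2 : TwoCfg S A) (hT : FourFrame A T) : ∃ t ∈ T, t ∉ A := by
  by_contra hno
  push Not at hno
  have h := card_le_of_le hno
  rw [hT.card, h2.card] at h
  omega

omit [Finite G] in
theorem FourTrans.comm_mem (hP : FourTrans A T P) {p q : G} (hp : p ∈ P) (hq : q ∈ P) :
    p * q * p⁻¹ * q⁻¹ ∈ A := by
  -- squares are in `A`, which is central in `P`
  have hz := hP.le_cent hp
  have h1 := hP.sq p hp
  have h3 := hP.sq (p * q) (mul_mem hp hq)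
  have h4 := hP.sq q hq
  have hcent : ∀ a ∈ A, ∀ r ∈ P, r * a = a * r := fun a ha r hr =>
    (mem_centralizer_iff.1 (hP.le_cent hr) a ha).symm
  have e : p * q * p⁻¹ * q⁻¹ = (p * q * (p * q)) * ((q * q) * (p * p))⁻¹ := by
    calc p * q * p⁻¹ * q⁻¹ = (p * q * (p * q)) * (q⁻¹ * (p⁻¹ * p⁻¹) * q⁻¹) := by group
      _ = (p * q * (p * q)) * ((p⁻¹ * p⁻¹) * q⁻¹ * q⁻¹) := by
        rw [show q⁻¹ * (p⁻¹ * p⁻¹) = (p⁻¹ * p⁻¹) * q⁻¹ from
          hcent _ (by simpa [mul_inv_rev] using inv_mem h1) _ (inv_mem hq)]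
      _ = (p * q * (p * q)) * ((q * q) * (p * p))⁻¹ := by group
  rw [e]
  exact mul_mem h3 (inv_mem (mul_mem h4 h1))

/-- A 2-group of `C(A) ∩ N(T)` over `P` is `P`. -/
theorem FourTrans.eq_of_le_norm (h2 : TwoCfg S A) (hT : FourFrame A T) (hP : FourTrans A T P)
    {U : Subgroup G} (hU : IsPGroup 2 U) (hPU : P ≤ U) (hUc : U ≤ centralizer (A : Set G))
    (hUN : U ≤ normalizer (T : Set G)) : U = P := by
  refine le_antisymm ?_ hPU
  set A' := A.subgroupOf U
  haveI : A'.Normal := normal_subgroupOf_of_le_normalizer (hUc.trans (centralizer_le_normalizer _))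
  set T' := T.subgroupOf U
  haveI : T'.Normal := normal_subgroupOf_of_le_normalizer hUN
  set π := QuotientGroup.mk' A'
  haveI : (T'.map π).Normal := (inferInstance : T'.Normal).map π (QuotientGroup.mk'_surjective _)
  obtain ⟨t, ht, htA⟩ := frame_exists h2 hT
  have hTU : T ≤ U := hP.T_le.trans hPU
  have hne : T'.map π ≠ ⊥ := fun h0 => htA (by
    have h : π ⟨t, hTU ht⟩ ∈ T'.map π := mem_map_of_mem π (mem_subgroupOf.2 ht)
    rw [h0, mem_bot] at h
    exact mem_subgroupOf.1 ((QuotientGroup.eq_one_iff _).1 h))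
  obtain ⟨y, ⟨⟨⟨t₁, ht₁U⟩, ht₁, rfl⟩, hyc⟩, hy1⟩ := (bot_or_exists_ne_one _).resolve_left
    (PGroups.inf_center_ne_bot (hU.to_quotient A') _ hne)
  have ht₁A : t₁ ∉ A := fun h => hy1 ((QuotientGroup.eq_one_iff _).2 (mem_subgroupOf.2 h))
  intro u hu
  have h1 : u * t₁ * u⁻¹ * t₁⁻¹ ∈ A := by
    refine mem_subgroupOf.1 (?_ : (⟨u, hu⟩ * ⟨t₁, ht₁U⟩ * ⟨u, hu⟩⁻¹ * ⟨t₁, ht₁U⟩⁻¹ : ↥U) ∈ A')
    rw [← QuotientGroup.eq_one_iff]
    show π _ = 1
    rw [map_mul, map_mul, map_mul, map_inv, map_inv, mem_center_iff.1 hyc (π ⟨u, hu⟩),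
      mul_inv_cancel_right, mul_inv_cancel]
  obtain ⟨p, hp, e⟩ := hP.trans t₁ (mem_subgroupOf.1 ht₁) ht₁A _ h1
  have hpu : p⁻¹ * u ∈ U ⊓ centralizer ({t₁} : Set G) := by
    refine ⟨U.mul_mem (U.inv_mem (hPU hp)) hu, mem_centralizer_singleton_iff.2 ?_⟩
    rw [← mul_inv_eq_iff_eq_mul]
    have h3 : t₁ * (u * t₁ * u⁻¹ * t₁⁻¹) = u * t₁ * u⁻¹ := by
      rw [(mem_centralizer_iff.1 (hT.le_cent (mem_subgroupOf.1 ht₁)) _ h1).symm,
        inv_mul_cancel_right]
    rw [h3] at e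
    calc p⁻¹ * u * t₁ * (p⁻¹ * u)⁻¹ = p⁻¹ * (u * t₁ * u⁻¹) * p := by group
      _ = p⁻¹ * (p * t₁ * p⁻¹) * p := by rw [e]
      _ = t₁ := by group
  have hW := hP.small t₁ (mem_subgroupOf.1 ht₁) ht₁A _ (hU.to_le inf_le_left)
    (inf_le_inf_right _ hUc) (le_inf hTU fun x hx =>
      mem_centralizer_singleton_iff.2 (frame_comm hT hx (mem_subgroupOf.1 ht₁)))
  have := mul_mem hp (hP.T_le (hW.le hpu))
  simpa using this

/-- The conjugate `T'` of `T` by an element of `C(A) ∩ N(P)` moving `T`. -/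
theorem FourTrans.pair (h2 : TwoCfg S A) (hT : FourFrame A T) (hP : FourTrans A T P) {x : G}
    (hxc0 : x ∈ centralizer (A : Set G)) (hxN : x ∈ normalizer (P : Set G))
    (hxT : x ∉ normalizer (T : Set G)) :
    T ⊓ T.map (MulAut.conj x).toMonoidHom ≤ A ∧
    (∀ p ∈ P, ∃ u ∈ T, ∃ v ∈ T.map (MulAut.conj x).toMonoidHom, p = u * v) ∧
    ∀ g ∈ normalizer (P : Set G), g ∈ centralizer (A : Set G) → g ∈ normalizer (T : Set G) ∨
      T.map (MulAut.conj g).toMonoidHom = T.map (MulAut.conj x).toMonoidHom := by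
  have hAT := hT.le
  set T' := T.map (MulAut.conj x).toMonoidHom with hT'
  have hT'P : T' ≤ P := by
    rintro _ ⟨t, ht, rfl⟩
    exact (mem_normalizer_iff.1 hxN t).1 (hP.T_le ht)
  have hxc : ∀ a ∈ A, x * a * x⁻¹ = a := fun a ha => by
    rw [← mem_centralizer_iff.1 hxc0 a ha, mul_inv_cancel_right]
  have hT'A : A ≤ T' := fun a ha => ⟨a, hAT ha, hxc a ha⟩
  have hT'comm : ∀ u ∈ T', ∀ v ∈ T', u * v = v * u := by
    rintro _ ⟨u, hu, rfl⟩ _ ⟨v, hv, rfl⟩
    rw [← map_mul, ← map_mul, frame_comm hT hu hv]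
  have hT'sq : ∀ u ∈ T', u * u = 1 := by
    rintro _ ⟨u, hu, rfl⟩
    rw [← map_mul, frame_sq hT hu, map_one]
  have hinter : T ⊓ T' ≤ A := by
    rintro t ⟨ht, ht'⟩
    by_contra htA
    have h1 : T' ≤ T := fun u hu => by
      rw [← hP.fix t ht htA]
      exact ⟨hT'P hu, mem_centralizer_singleton_iff.2 (hT'comm u hu t ht')⟩
    exact hxT (mem_normalizer_iff_map_conj_eq.2
      (eq_of_le_of_card_ge h1 (H39.card_map_conj T x).ge))
  have hT'n : T' ≤ normalizer (T : Set G) := hT'P.trans hP.le_norm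
  have hprod : ∀ p ∈ P, ∃ u ∈ T, ∃ v ∈ T', p = u * v := by
    have hle : T ⊔ T' = P := by
      refine eq_of_le_of_card_ge (sup_le hP.T_le hT'P) ?_
      have h := H36.card_mul_card_le (le_sup_left : T ≤ T ⊔ T') (le_sup_right : T' ≤ T ⊔ T')
      have h4 := card_le_of_le hinter
      rw [hT', H39.card_map_conj, hT.card] at h
      rw [h2.card] at h4
      rw [hP.card]
      nlinarith
    intro p hp
    rw [← hle] at hp
    obtain ⟨u, hu, v, hv, e⟩ := (Coprime.mem_sup_iff hT'n).1 hp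
    exact ⟨u, hu, v, hv, e.symm⟩
  have hinv : ∀ p ∈ P, p * p = 1 → p ∈ T ∨ p ∈ T' := by
    intro p hp hp2
    obtain ⟨u, hu, v, hv, rfl⟩ := hprod p hp
    by_cases huA : u ∈ A
    · exact Or.inr (mul_mem (hT'A huA) hv)
    left
    refine mul_mem hu ?_
    rw [← hP.fix u hu huA]
    refine ⟨hT'P hv, mem_centralizer_singleton_iff.2 ?_⟩
    calc v * u = (u * u) * (v * u) * (v * v) := by rw [frame_sq hT hu, hT'sq v hv, one_mul, mul_one]
      _ = u * (u * v * (u * v)) * v := by group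
      _ = u * v := by rw [hp2, mul_one]
  -- elements of `N(P)` permute `T` and `T'`
  have hperm : ∀ g ∈ normalizer (P : Set G), g ∈ centralizer (A : Set G) →
      g ∈ normalizer (T : Set G) ∨ T.map (MulAut.conj g).toMonoidHom = T' := by
    intro g hg _
    set V := T.map (MulAut.conj g).toMonoidHom
    have hV : ∀ v ∈ V, v ∈ T ∨ v ∈ T' := by
      rintro _ ⟨t, ht, rfl⟩
      exact hinv _ ((mem_normalizer_iff.1 hg t).1 (hP.T_le ht))
        (by rw [← map_mul, frame_sq hT ht, map_one])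
    have h16 : Nat.card V = 16 := (H39.card_map_conj T g).trans hT.card
    by_cases hVT : V ≤ T
    · exact Or.inl (mem_normalizer_iff_map_conj_eq.2
        (eq_of_le_of_card_ge hVT (hT.card.trans h16.symm).le))
    right
    refine eq_of_le_of_card_ge (fun v hv => ?_) (by rw [h16, hT', H39.card_map_conj, hT.card])
    obtain ⟨w, hw, hwT⟩ := SetLike.not_le_iff_exists.1 hVT
    have hw' := (hV w hw).resolve_left hwT
    refine (hV v hv).elim (fun hvT => ?_) id
    rcases hV (v * w) (mul_mem hv hw) with h | h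
    · exact absurd ((T.mul_mem_cancel_left hvT).1 h) hwT
    · exact (T'.mul_mem_cancel_right hw').1 h
  exact ⟨hinter, hprod, hperm⟩

/-- `P` is maximal among the 2-subgroups of `C(A)`. -/
theorem FourTrans.eq_of_le (h2 : TwoCfg S A) (hT : FourFrame A T) (hP : FourTrans A T P)
    {R : Subgroup G} (hR : IsPGroup 2 R) (hPR : P ≤ R) (hRc : R ≤ centralizer (A : Set G)) :
    R = P := by
  by_contra hne
  -- enlarge to a Sylow subgroup
  obtain ⟨R0, hR0⟩ := (hR.comap_subtype (K := centralizer (A : Set G))).exists_le_sylow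
  set R1 := (R0 : Subgroup _).map (centralizer (A : Set G)).subtype with hR1
  have hR1p : IsPGroup 2 R1 := R0.isPGroup'.map _
  have hR1c : R1 ≤ centralizer (A : Set G) := map_subtype_le _
  have hRR1 : R ≤ R1 := (map_subgroupOf_eq_of_le hRc).ge.trans (map_mono hR0)
  have hlt : P < R1 := lt_of_lt_of_le (lt_of_le_of_ne hPR (Ne.symm hne)) hRR1
  obtain ⟨x, hxR, hxP, hxN⟩ := H39.exists_mem_normalizer_not_mem hR1p hlt
  have hAT := hT.le
  have hAP : A ≤ P := hAT.trans hP.T_le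
  have hin : R1 ⊓ normalizer (P : Set G) ⊓ normalizer (T : Set G) = P :=
    hP.eq_of_le_norm h2 hT (hR1p.to_le (inf_le_left.trans inf_le_left))
      (le_inf (le_inf hlt.le le_normalizer) hP.le_norm) ((inf_le_left.trans inf_le_left).trans hR1c)
      inf_le_right
  have hxT : x ∉ normalizer (T : Set G) := fun h => hxP (hin.le ⟨⟨hxR, hxN⟩, h⟩)
  set T' := T.map (MulAut.conj x).toMonoidHom with hT'
  have hT'P : T' ≤ P := by
    rintro _ ⟨t, ht, rfl⟩
    exact (mem_normalizer_iff.1 hxN t).1 (hP.T_le ht)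
  have hxc : ∀ a ∈ A, x * a * x⁻¹ = a := fun a ha => by
    rw [← mem_centralizer_iff.1 (hR1c hxR) a ha, mul_inv_cancel_right]
  have hT'A : A ≤ T' := fun a ha => ⟨a, hAT ha, hxc a ha⟩
  have hT'comm : ∀ u ∈ T', ∀ v ∈ T', u * v = v * u := by
    rintro _ ⟨u, hu, rfl⟩ _ ⟨v, hv, rfl⟩
    rw [← map_mul, ← map_mul, frame_comm hT hu hv]
  have hT'sq : ∀ u ∈ T', u * u = 1 := by
    rintro _ ⟨u, hu, rfl⟩
    rw [← map_mul, frame_sq hT hu, map_one]
  obtain ⟨hinter, hprod, hperm⟩ := hP.pair h2 hT (hR1c hxR) hxN hxT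
  have hswap : ∀ v ∈ T', x * v * x⁻¹ ∈ T := by
    intro v hv
    have hxx : x * x ∈ normalizer (T : Set G) := by
      rcases hperm (x * x) (mul_mem hxN hxN) (mul_mem (hR1c hxR) (hR1c hxR)) with h | h
      · exact h
      rw [← Coprime.map_conj_map_conj, ← hT'] at h
      exact absurd (mem_normalizer_iff_map_conj_eq.2
        (map_injective (MulAut.conj x).injective (h.trans hT'))) hxT
    obtain ⟨t, ht, rfl⟩ := hv
    have := (mem_normalizer_iff.1 hxx t).1 ht
    simpa [mul_assoc] using this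
  -- `R1 ∩ N(P)` has order 128
  set Q := R1 ⊓ normalizer (P : Set G) with hQ
  have hQmem : ∀ y ∈ Q, y ∈ P ∨ ∃ p ∈ P, y = x * p := by
    rintro y ⟨hyR, hyN⟩
    rcases hperm y hyN (hR1c hyR) with h | h
    · exact Or.inl (hin.le ⟨⟨hyR, hyN⟩, h⟩)
    refine Or.inr ⟨x⁻¹ * y, hin.le ⟨⟨R1.mul_mem (R1.inv_mem hxR) hyR,
      Subgroup.mul_mem _ (Subgroup.inv_mem _ hxN) hyN⟩, ?_⟩,
      (mul_inv_cancel_left x y).symm⟩
    refine mem_normalizer_iff_map_conj_eq.2 ?_
    change T.map (MulAut.conj (x⁻¹ * y)).toMonoidHom = T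
    rw [← Coprime.map_conj_map_conj, h, Coprime.map_conj_map_conj, inv_mul_cancel,
      Coprime.map_conj_one]
  have hPQ : P ≤ Q := le_inf hlt.le le_normalizer
  have hQ128 : Nat.card Q = 128 := by
    have hidx : P.relIndex Q = 2 := by
      rw [relIndex, index_eq_two_iff]
      refine ⟨⟨x⁻¹, inv_mem (show x ∈ Q from ⟨hxR, hxN⟩)⟩, fun ⟨b, hb⟩ => ?_⟩
      rw [mem_subgroupOf, mem_subgroupOf]
      show Xor (b * x⁻¹ ∈ P) (b ∈ P)
      rcases hQmem b hb with h | ⟨p, hp, rfl⟩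
      · refine Or.inr ⟨h, fun h' => hxP ?_⟩
        simpa using inv_mem ((P.mul_mem_cancel_left h).1 h')
      · exact Or.inl ⟨(mem_normalizer_iff.1 hxN p).1 hp,
          fun h' => hxP ((P.mul_mem_cancel_right hp).1 h')⟩
    have h := relIndex_mul_relIndex (⊥ : Subgroup G) P Q bot_le hPQ
    rw [relIndex_bot_left, relIndex_bot_left, hP.card, hidx] at h
    omega
  -- `Q` is self-normalising in `R1`
  have hQR : Q = R1 := by
    by_contra hQne
    obtain ⟨y, hyR, hyQ, hyN⟩ := H39.exists_mem_normalizer_not_mem hR1p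
      (lt_of_le_of_ne inf_le_left hQne)
    set P' := P.map (MulAut.conj y).toMonoidHom with hP'
    have hP'Q : P' ≤ Q := by
      rintro _ ⟨p, hp, rfl⟩
      exact (mem_normalizer_iff.1 hyN p).1 (hPQ hp)
    have hnle : ¬ P' ≤ P := fun h => hyQ ⟨hyR, mem_normalizer_iff_map_conj_eq.2
      (eq_of_le_of_card_ge h (H39.card_map_conj P y).ge)⟩
    obtain ⟨w, hw, hwP⟩ := SetLike.not_le_iff_exists.1 hnle
    obtain ⟨t, ⟨ht, htP'⟩, htA⟩ : ∃ t ∈ T ⊓ (P ⊓ P'), t ∉ A := by
      by_contra hno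
      push Not at hno
      have h1 := H36.card_mul_card_le hPQ hP'Q
      have h3 := H36.card_mul_card_le hP.T_le (inf_le_left : P ⊓ P' ≤ P)
      have h4 := card_le_of_le (show T ⊓ (P ⊓ P') ≤ A from hno)
      rw [hP', H39.card_map_conj, hP.card, hQ128] at h1
      rw [hT.card, hP.card] at h3
      rw [h2.card] at h4
      nlinarith
    have hcA : w * t * w⁻¹ * t⁻¹ ∈ A := by
      obtain ⟨w', hw', rfl⟩ := hw
      obtain ⟨t', ht', e⟩ := htP'.2
      rw [← e, ← map_inv, ← map_inv, ← map_mul, ← map_mul, ← map_mul]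
      have h1 := hP.comm_mem hw' ht'
      show y * (w' * t' * w'⁻¹ * t'⁻¹) * y⁻¹ ∈ A
      rw [← mem_centralizer_iff.1 (hR1c hyR) _ h1, mul_inv_cancel_right]
      exact h1
    rcases hQmem w (hP'Q hw) with h | ⟨p, hp, e⟩
    · exact hwP h
    have hwT' : w * t * w⁻¹ ∈ T' := by
      rw [e, show x * p * t * (x * p)⁻¹ = x * (p * t * p⁻¹) * x⁻¹ by group]
      exact H39.conj_mem_map_conj ((mem_normalizer_iff.1 (hP.le_norm hp) t).1 ht)
    have hwT : w * t * w⁻¹ ∈ T := by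
      have h' := mul_mem (hAT hcA) ht
      simpa using h'
    have h5 := mul_mem (inv_mem hcA) (hinter ⟨hwT, hwT'⟩)
    exact htA (by simpa [mul_assoc] using h5)
  -- an element of `Q ∖ P` whose square lies in `A`
  obtain ⟨u, hu, v, hv, huv⟩ := hprod (x * x) (hin.le ⟨⟨mul_mem hxR hxR, mul_mem hxN hxN⟩, by
    refine H39.mem_normalizer_of_conj_mem fun t ht => ?_
    simpa [mul_assoc] using hswap _ (H39.conj_mem_map_conj ht)⟩)
  have hux : u * x ∈ R1 ∧ u * x ∈ normalizer (P : Set G) :=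
    ⟨mul_mem (hlt.le (hP.T_le hu)) hxR, mul_mem (le_normalizer (hP.T_le hu)) hxN⟩
  have hux2 : u * x * (u * x) ∈ A := by
    set w := x * u * x⁻¹ with hw
    have hwT' : w ∈ T' := H39.conj_mem_map_conj hu
    have hwP : w ∈ P := hT'P hwT'
    -- conjugating `x² = u v` by `x` gives `v ≡ w` modulo `A`
    have e1 : u * v = x * (u * v) * x⁻¹ := by rw [← huv]; group
    have hvw : v * w⁻¹ ∈ A := by
      set u1 := x * v * x⁻¹ with hu1
      have hu1T : u1 ∈ T := hswap v hv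
      have e2 : u * v = u1 * w * (w⁻¹ * u1⁻¹ * w * u1) := by
        rw [e1, hw, hu1]; group
      have hA1 : w⁻¹ * u1⁻¹ * w * u1 ∈ A := by
        simpa using hP.comm_mem (inv_mem hwP) (inv_mem (hP.T_le hu1T))
      set a := w⁻¹ * u1⁻¹ * w * u1
      have e3 : u1⁻¹ * u = w * a * v⁻¹ := by
        rw [eq_mul_inv_iff_mul_eq, mul_assoc, e2]; group
      have h4 : u1⁻¹ * u ∈ A := hinter ⟨T.mul_mem (T.inv_mem hu1T) hu,
        e3 ▸ T'.mul_mem (T'.mul_mem hwT' (hT'A hA1)) (T'.inv_mem hv)⟩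
      rw [e3] at h4
      have h5 : v * w⁻¹ = (w * a * v⁻¹)⁻¹ * a := by
        rw [hT'comm w hwT' a (hT'A hA1)]
        group
      exact h5 ▸ mul_mem (inv_mem h4) hA1
    have e5 : u * x * (u * x) = u * w * u⁻¹ * w⁻¹ * (w * v) := by
      calc u * x * (u * x) = u * (x * u * x⁻¹) * (x * x) := by group
        _ = u * w * (u * v) := by rw [huv]
        _ = u * w * u⁻¹ * w⁻¹ * (w * ((u * u) * v)) := by group
        _ = u * w * u⁻¹ * w⁻¹ * (w * v) := by rw [frame_sq hT hu, one_mul]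
    rw [e5]
    refine mul_mem (hP.comm_mem (hP.T_le hu) hwP) ?_
    have h6 : w * v = v * w⁻¹ := by
      rw [hT'comm w hwT' v hv, inv_eq_of_mul_eq_one_right (hT'sq w hwT')]
    rw [h6]; exact hvw
  -- `R1` is a Sylow subgroup of `G`, and `A` is strongly closed in it
  obtain ⟨c, hc⟩ := MulAction.exists_smul_eq (↥(centralizer (A : Set G))) (S.subtype h2.cent) R0
  have hR1e : R1 = (S : Subgroup G).map (MulAut.conj (c : G)).toMonoidHom := by
    ext y
    constructor
    · rintro ⟨z, hz, rfl⟩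
      rw [← hc] at hz
      obtain ⟨s, hs, rfl⟩ := hz
      exact ⟨s, hs, rfl⟩
    · rintro ⟨s, hs, rfl⟩
      refine ⟨c * ⟨s, h2.cent hs⟩ * c⁻¹, ?_, rfl⟩
      rw [← hc]
      exact ⟨⟨s, h2.cent hs⟩, hs, rfl⟩
  set SR : Sylow 2 G := (c : G) • S
  have hSR : (SR : Subgroup G) = R1 := hR1e.symm
  have hAcl : Cfsg.IsWeaklyClosed A (SR : Subgroup G) := by
    refine ⟨hSR.symm ▸ hAP.trans hlt.le, fun g hg => eq_of_le_of_card_ge ?_ ?_⟩
    · rintro _ ⟨a, ha, rfl⟩
      have h1 : g * a * g⁻¹ ∈ R1 := hSR ▸ hg ⟨a, ha, rfl⟩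
      rw [hR1e, H39.mem_map_conj] at h1
      have h3 := h2.cfg.closed.2 a ha ((c : G)⁻¹ * g) (by simpa [mul_assoc] using h1)
      have h4 : (c : G) * ((c : G)⁻¹ * g * a * ((c : G)⁻¹ * g)⁻¹) * (c : G)⁻¹ ∈ A := by
        rw [← mem_centralizer_iff.1 c.2 _ h3, mul_inv_cancel_right]; exact h3
      simpa [mul_assoc] using h4
    · rw [H39.card_map_conj]
  set K := normalizer (A : Set G) with hK
  have hR1K : R1 ≤ K := hR1c.trans (centralizer_le_normalizer _)
  have hctl := Fusion.controls_of_weaklyClosed_central SR (Z := A) (fun a ha =>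
    mem_centralizer_iff.2 fun r hr =>
      (mem_centralizer_iff.1 (hR1c (hSR.le hr)) a ha).symm) hAcl
  have hperf : commutator G = ⊤ := by
    haveI := h2.cfg.simple
    refine (Subgroup.Normal.eq_bot_or_eq_top (H := commutator G) inferInstance).resolve_left
      fun h => h2.cfg.nonab ⟨⟨fun p q => ?_⟩⟩
    have : ⁅p, q⁆ ∈ commutator G :=
      commutator_mem_commutator (mem_top p) (mem_top q)
    rw [h, mem_bot] at this
    exact commutatorElement_eq_one_iff_mul_comm.1 this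
  have hfoc := Fusion.commutator_inf_eq_of_controls SR (hSR.symm ▸ hR1K) hctl
  rw [hperf, top_inf_eq, hSR] at hfoc
  -- the quotient `N(A)/A`
  set A' := A.subgroupOf K
  haveI : A'.Normal := normal_subgroupOf_of_le_normalizer le_rfl
  set π := QuotientGroup.mk' A'
  have hπ : Function.Surjective π := QuotientGroup.mk'_surjective A'
  have hπ1 : ∀ y : ↥K, π y = 1 ↔ (y : G) ∈ A := fun y =>
    (QuotientGroup.eq_one_iff y).trans mem_subgroupOf
  have hπe : ∀ y z : ↥K, π y = π z ↔ (y : G) * (z : G)⁻¹ ∈ A := fun y z => by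
    rw [← mul_inv_eq_one, ← map_inv, ← map_mul, hπ1]; rfl
  have hcard : ∀ U : Subgroup G, A ≤ U → U ≤ K →
      Nat.card U = 4 * Nat.card ((U.subgroupOf K).map π) := by
    intro U hAU hUK
    set f := π.comp (inclusion hUK)
    have hr : f.range = (U.subgroupOf K).map π := by
      ext y
      exact ⟨fun ⟨z, e⟩ => ⟨inclusion hUK z, z.2, e⟩, fun ⟨z, hz, e⟩ => ⟨⟨z, hz⟩, e⟩⟩
    have hk : f.ker = A.subgroupOf U := by
      ext y
      exact hπ1 (inclusion hUK y)
    rw [← hr, ← index_ker, hk, ← h2.card, ← Nat.card_congr (subgroupOfEquivOfLe hAU).toEquiv,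
      card_mul_index]
  set Sb : Sylow 2 (↥K ⧸ A') := (SR.subtype (hSR.symm ▸ hR1K)).mapSurjective hπ
  have hSb : (Sb : Subgroup (↥K ⧸ A')) = (R1.subgroupOf K).map π := by rw [← hSR]; rfl
  set Pb := (P.subgroupOf K).map π
  set Tb := (T.subgroupOf K).map π
  have hPK : P ≤ K := hlt.le.trans hR1K
  have hR128 : Nat.card R1 = 128 := hQR ▸ hQ128
  set X : ↥K := ⟨u * x, hR1K hux.1⟩
  obtain ⟨M, hMn, hMi, hXM⟩ := exists_index_two_of_swap Sb (Pb := Pb) (Tb := Tb) (x := π X)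
    (hSb.symm ▸ map_mono (comap_mono hlt.le))
    (by
      have h : Nat.card P = 4 * Nat.card ↥Pb := hcard P hAP hPK
      rw [hP.card] at h; omega)
    (by have h := hcard R1 (hAP.trans hlt.le) hR1K; rw [hR128, ← hSb] at h; omega)
    (by
      rintro _ ⟨p, hp, rfl⟩ _ ⟨q, hq, rfl⟩
      rw [← map_mul, ← map_mul, hπe]
      have h := hP.comm_mem (p := (p : G)) (q := (q : G)) hp hq
      push_cast
      rw [mul_inv_rev]
      simpa [mul_assoc] using h)
    (by
      rintro _ ⟨p, hp, rfl⟩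
      rw [← map_mul, hπ1]
      exact hP.sq _ hp)
    (map_mono (comap_mono hP.T_le))
    (by
      have h : Nat.card T = 4 * Nat.card ↥Tb := hcard T hAT (hP.T_le.trans hPK)
      rw [hT.card] at h; omega)
    (by rw [← map_mul, hπ1]; exact hux2)
    (hSb.symm ▸ mem_map_of_mem π (show X ∈ R1.subgroupOf K from hux.1))
    (by
      rintro ⟨p, hp, e⟩
      rw [hπe] at e
      refine hxP ?_
      have h1 : u * x ∈ P := by
        have h7 := mul_mem (inv_mem (hAP e)) (show (p : G) ∈ P from hp)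
        simpa [mul_assoc] using h7
      simpa using mul_mem (inv_mem (hP.T_le hu)) h1)
    (by
      rintro _ ⟨p, hp, rfl⟩
      exact ⟨X * p * X⁻¹, mem_subgroupOf.2 ((mem_normalizer_iff.1 hux.2 _).1 hp), by simp⟩)
    (by
      rintro _ ⟨t, ht, rfl⟩ ⟨t', ht', e⟩
      rw [← map_inv, ← map_mul, ← map_mul, hπe] at e
      rw [hπ1]
      by_contra htA
      have h1 : u * x * (t : G) * (u * x)⁻¹ ∈ T := by
        have h7 := mul_mem (inv_mem (hAT e)) (show (t' : G) ∈ T from ht')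
        simpa [X, mul_assoc] using h7
      have h3 : x * (t : G) * x⁻¹ ∈ T := by
        have h7 := mul_mem (mul_mem (inv_mem hu) h1) hu
        simpa [mul_assoc] using h7
      have h5 := hinter ⟨h3, H39.conj_mem_map_conj ht⟩
      have h6 := hxc _ h5
      exact htA (by
        have : x * (t : G) * x⁻¹ = (t : G) := by
          have h8 : x * (x * (t : G) * x⁻¹) * x⁻¹ = x * (t : G) * x⁻¹ := h6
          simpa [mul_assoc] using congrArg (fun z => x⁻¹ * z * x) h8
        exact this ▸ h5))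
  haveI := hMn
  have hcomm : commutator ↥K ≤ M.comap π := by
    refine (Subgroup.map_le_iff_le_comap).1 ?_
    refine (Fusion.map_commutator_le π).trans ?_
    intro y hy
    have hq : Nat.card ((↥K ⧸ A') ⧸ M) = 2 := hMi
    haveI : IsCyclic ((↥K ⧸ A') ⧸ M) := isCyclic_of_prime_card hq
    exact (Subgroup.Normal.quotient_commutative_iff_commutator_le).1
      ⟨⟨fun a b => (IsCyclic.isMulCommutative (α := (↥K ⧸ A') ⧸ M)).is_comm.comm a b⟩⟩ hy
  have hX : u * x ∈ ⁅K, K⁆ := ((le_of_eq hfoc) hux.1).1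
  rw [← map_subtype_commutator] at hX
  obtain ⟨X', hX', eX⟩ := hX
  exact hXM (show π X ∈ M from (show X' = X from Subtype.ext eX) ▸ hcomm hX')

end Cfsg.Agent.H62.WA
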