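import Cfsg.Agent.H62.WA.NoMet
import Cfsg.Agent.H77.WA.RankTwoDefs
import Cfsg.Agent.H21.Walter.Functor
import Cfsg.Agent.H36.Basic
import Cfsg.Agent.Components.GoldschmidtGen
import Cfsg.Agent.Coprime.Action

/-!
# Strongly closed four-groups: a coset without toral involution

If no member of `eA` is toral, every central signalizer in `C(y)`, `y ∈ eA`, modulo the core
centralizes all components, so `a ↦ O(C(a))`, `y ↦ [O(C(y)), A] (O(C(A)) ∩ C(y))` is a signalizer
functor on `A × ⟨e⟩`; hence the cores of the `C(a)` generate a group of odd order and there is a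
strongly embedded subgroup.
-/

set_option autoImplicit false

namespace Cfsg.Agent.H62.WA

open Subgroup Cfsg.Agent
open Cfsg.Agent.H88.Walter (Bb)
open Cfsg.Agent.H21.Walter (coreImage coreProj OddTrivialAt)
open Cfsg.Agent.H77.WA
open scoped commutatorElement

universe u

local instance fact_two_good : Fact (Nat.Prime 2) := ⟨Nat.prime_two⟩

variable {X : Type u} [Group X] [Finite X]

/-- A central signalizer of `v * r`, `r` centralizing the component `L`, centralizes `L` when no
odd group of automorphisms is bound to the image of `v`. -/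
theorem sig_le_centralizer_of_piece (hO : Cfsg.pPrimeCore 2 X = ⊥) {x : X} (hx : orderOf x = 2)
    {Y : Subgroup X} (h : H40.IsCentralSignalizer 2 x Y) {L : Subgroup X} (hL : Cfsg.IsComponent L)
    {v r : X} (hv : v ∈ L) (hr : r ∈ centralizer (L : Set X)) (hvr : v * r = x)
    (hq : (QuotientGroup.mk ⟨v, hv⟩ : Quot L) = 1 ∨
      OddTrivialAt (QuotientGroup.mk ⟨v, hv⟩ : Quot L)) :
    Y ≤ centralizer (L : Set X) := by
  rcases hq with hq | hq
  · have hvc : v ∈ centralizer (L : Set X) := mem_centralizer_iff.2 fun l hl =>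
      congrArg Subtype.val (mem_center_iff.1 ((QuotientGroup.eq_one_iff _).1 hq) ⟨l, hl⟩)
    exact H40.sig_le_centralizer hO hx h hL (Or.inl (hvr ▸ mul_mem hvc hr))
  have hxN : x ∈ normalizer (L : Set X) :=
    hvr ▸ mul_mem (le_normalizer hv) (centralizer_le_normalizer _ hr)
  obtain ⟨H, hH⟩ : ∃ H, H = L ⊔ centralizer ({x} : Set X) ⊓ normalizer (L : Set X) := ⟨_, rfl⟩
  have hLH : L ≤ H := hH ▸ le_sup_left
  have hHN : H ≤ normalizer (L : Set X) := hH ▸ sup_le le_normalizer inf_le_right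
  have hxH : x ∈ H := hH ▸ mem_sup_right ⟨mem_centralizer_singleton_iff.2 rfl, hxN⟩
  have hYH : Y ≤ H :=
    hH ▸ (le_inf h.le_centralizer (H40.sig_le_normalizer hO h hL)).trans le_sup_right
  set φ := H40.autHom L hHN with hφ
  set f := φ.rangeRestrict with hf
  have hker : ∀ u : ↥H, f u = 1 ↔ (u : X) ∈ centralizer (L : Set X) := fun u => by
    rw [← H40.autHom_eq_one hL hHN u, Subtype.ext_iff]
    rfl
  have hmap := H40.map_le_centralizerPPrimeCore hO h hL hxN hLH hH.le
    φ.rangeRestrict_surjective hker hxH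
  set K := Cfsg.centralizerPPrimeCore 2 (f ⟨x, hxH⟩)
  set q : Quot L := QuotientGroup.mk ⟨v, hv⟩ with hqdef
  have hfx : φ ⟨x, hxH⟩ = MulAut.conj q := by
    apply MulEquiv.ext
    intro w
    induction w using QuotientGroup.induction_on with
    | H l =>
      rw [hφ, H40.autHom_apply, MulAut.conj_apply, hqdef, ← QuotientGroup.mk_inv,
        ← QuotientGroup.mk_mul, ← QuotientGroup.mk_mul]
      congr 1
      apply Subtype.ext
      rw [H40.normalizerMonoidHom_coe]
      show x * (l : X) * x⁻¹ = v * l * v⁻¹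
      have hrl : r * (l : X) * r⁻¹ = l := by
        rw [← mem_centralizer_iff.1 hr l l.2, mul_inv_cancel_right]
      calc x * (l : X) * x⁻¹ = v * (r * l * r⁻¹) * v⁻¹ := by rw [← hvr]; group
        _ = v * l * v⁻¹ := by rw [hrl]
  have hZ : center (Quot L) = ⊥ := by
    have : IsSimpleGroup (Quot L) := hL.2.2
    exact H36.center_eq_bot_of_simple (Components.qs_quotient_not_comm hL.2)
  have hW : (K.map φ.range.subtype : Subgroup (MulAut (Quot L))) = ⊥ := by
    refine hq _ ?_ ?_ ?_
    · rw [card_map_of_injective φ.range.subtype_injective]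
      exact Nat.not_even_iff_odd.1 fun he => H47.not_dvd_centralizerPPrimeCore _ he.two_dvd
    · rintro _ ⟨w, hw, rfl⟩
      have hc : (w : MulAut (Quot L)) * MulAut.conj q = MulAut.conj q * w := by
        rw [← hfx]
        exact congrArg Subtype.val
          (mem_centralizer_singleton_iff.1 (H47.centralizerPPrimeCore_le _ hw))
      set g : MulAut (Quot L) := φ.range.subtype w with hg
      have hmem : q⁻¹ * g q ∈ center (Quot L) := by
        rw [mem_center_iff]
        intro z
        obtain ⟨z, rfl⟩ := g.surjective z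
        have e : g (q * z * q⁻¹) = q * g z * q⁻¹ := DFunLike.congr_fun hc z
        rw [map_mul, map_mul, map_inv] at e
        calc g z * (q⁻¹ * g q) = q⁻¹ * (q * g z * q⁻¹) * g q := by group
          _ = q⁻¹ * (g q * g z * (g q)⁻¹) * g q := by rw [e]
          _ = q⁻¹ * g q * g z := by group
      rw [hZ, mem_bot, inv_mul_eq_one] at hmem
      exact hmem.symm
    · intro c hc
      have hcR : MulAut.conj c ∈ φ.range := H40.range_conj_le_autHom hHN hLH ⟨c, rfl⟩
      have hcc : (⟨MulAut.conj c, hcR⟩ : φ.range) ∈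
          centralizer ({f ⟨x, hxH⟩} : Set φ.range) := by
        refine mem_centralizer_singleton_iff.2 (Subtype.ext ?_)
        show MulAut.conj c * φ ⟨x, hxH⟩ = φ ⟨x, hxH⟩ * MulAut.conj c
        rw [hfx, ← map_mul, ← map_mul, mem_centralizer_singleton_iff.1 hc]
      exact le_normalizer_map φ.range.subtype
        ⟨_, H47.centralizer_le_normalizer_core _ hcc, rfl⟩
  rw [map_eq_bot_iff_of_injective _ φ.range.subtype_injective] at hW
  intro y hy
  refine (hker ⟨y, hYH hy⟩).1 ?_
  have h1 : f ⟨y, hYH hy⟩ ∈ K := hmap (mem_map_of_mem f (mem_subgroupOf.2 hy))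
  rwa [hW, mem_bot] at h1

/-- The pieces of a met component are rigid, or the centralizer of one of them moves `A`. -/
theorem quot_oddTrivial (htf : TypeFacts.{u}) {A : Subgroup X}
    (hA : Cfsg.IsElementaryAbelian 2 A) (hs : Struct A) {L : Subgroup X} (hM : Met A L)
    (hnt : center ↥L = ⊥ → H10.Walter.AbSyl (Quot L) → ∀ v ∈ A ⊓ L, v ≠ 1 → ∀ u ∈ L,
      Commute u v → u ∈ centralizer (A : Set X))
    {v : X} (hvA : v ∈ A) (hvL : v ∈ L) :
    (QuotientGroup.mk ⟨v, hvL⟩ : Quot L) = 1 ∨
      OddTrivialAt (QuotientGroup.mk ⟨v, hvL⟩ : Quot L) := by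
  refine or_iff_not_imp_left.2 fun hq1 => ?_
  obtain ⟨T, hT⟩ := ((H47.isPGroup_of_elementaryAbelian hA).comap_subtype :
    IsPGroup 2 ↥(A.subgroupOf L)).exists_le_sylow
  set π := QuotientGroup.mk' (center ↥L)
  set Tq : Sylow 2 (Quot L) := T.mapSurjective (QuotientGroup.mk'_surjective _)
  have hvT : π ⟨v, hvL⟩ ∈ (Tq : Subgroup (Quot L)) :=
    mem_map_of_mem π (hT (mem_subgroupOf.2 hvA))
  rcases hs.type L hM with hAT | hNT
  · have hpiece := (htf.ab _ hAT Tq).piece
    rcases hpiece.type with hU | hOT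
    · exfalso
      have : IsSimpleGroup (Quot L) := hAT.1
      have hcb : center ↥L = ⊥ := hs.center_bot L hM hAT.2.2.1
      have hinj : ∀ u : ↥L, π u = 1 → u = 1 := fun u hu => by
        have h1 : u ∈ center ↥L := (QuotientGroup.eq_one_iff _).1 hu
        rwa [hcb, mem_bot] at h1
      have hsq := hpiece.sq
      have hlift : ∀ w ∈ (Tq : Subgroup (Quot L)), ∃ a ∈ A.subgroupOf L, π a = w := by
        rintro _ ⟨t, ht, rfl⟩
        have h2 : t * t ∈ center ↥L := (QuotientGroup.eq_one_iff _).1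
          ((map_mul π t t).trans (hsq _ ⟨t, ht, rfl⟩))
        obtain ⟨a, ha, z, hz, rfl⟩ :=
          mem_sup_of_normal_right.1 ((hs.image L hM T hT t ht).1 h2)
        exact ⟨a, ha, by
          rw [map_mul, show π z = 1 from (QuotientGroup.eq_one_iff _).2 hz, mul_one]⟩
      obtain ⟨w, hw, hwT⟩ : ∃ w ∈ H88.Walter.invSet (Tq : Subgroup (Quot L)),
          w ∉ (Tq : Subgroup (Quot L)) := by
        by_contra hno
        push Not at hno
        have hall : ∀ z : Quot L, z * z = 1 := fun z => hsq z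
          ((closure_le _).2 (Set.union_subset subset_rfl hno) (hU.2 ▸ mem_top z))
        exact hAT.2.1 ⟨⟨fun a b => by
          have h1 : a⁻¹ = a := inv_eq_of_mul_eq_one_right (hall a)
          have h2 : b⁻¹ = b := inv_eq_of_mul_eq_one_right (hall b)
          have h3 : (a * b)⁻¹ = a * b := inv_eq_of_mul_eq_one_right (hall _)
          rw [mul_inv_rev, h1, h2] at h3
          exact h3.symm⟩⟩
      obtain ⟨hwodd, v', hv'T, hv'1, hwv', s, hsT, hinv⟩ := hw
      obtain ⟨a₁, ha₁, ha₁e⟩ := hlift v' hv'T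
      obtain ⟨a₂, ha₂, ha₂e⟩ := hlift s hsT
      obtain ⟨u, rfl⟩ := QuotientGroup.mk'_surjective (center ↥L) w
      have hcomm : Commute (u : X) (a₁ : X) := by
        have h1 : π (u * a₁ * u⁻¹ * a₁⁻¹) = 1 := by
          rw [map_mul, map_mul, map_mul, map_inv, map_inv, ha₁e, hwv'.eq, mul_inv_cancel_right,
            mul_inv_cancel]
        have h2 := congrArg Subtype.val (hinj _ h1)
        simp only [Subgroup.coe_mul, Subgroup.coe_inv, Subgroup.coe_one] at h2
        exact mul_inv_eq_iff_eq_mul.1 (mul_inv_eq_one.1 h2)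
      have hv1 : (a₁ : X) ≠ 1 := fun h => hv'1 (by
        rw [← ha₁e, show a₁ = 1 from Subtype.ext h, map_one])
      have hu := hnt hcb hAT.2.2.1 a₁ ⟨mem_subgroupOf.1 ha₁, a₁.2⟩ hv1 u u.2 hcomm
      have hus : Commute s (π u) := by
        rw [← ha₂e]
        refine Commute.map ?_ π
        exact Subtype.ext (mem_centralizer_iff.1 hu a₂ (mem_subgroupOf.1 ha₂))
      exact hwT ((H88.Walter.eq_one_of_odd_inverted hwodd hinv hus) ▸ one_mem _)
    · exact hOT _ hvT hq1
  · obtain ⟨V, hV⟩ := htf.nab _ hNT Tq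
    refine hV.odd_trivial _ ((hV.mem_iff _).2 ⟨hvT, ?_⟩) hq1
    show π ⟨v, hvL⟩ * π ⟨v, hvL⟩ = 1
    rw [← map_mul, show (⟨v, hvL⟩ * ⟨v, hvL⟩ : ↥L) = 1 from
      Subtype.ext (show v * v = 1 by rw [← pow_two]; exact hA.2 v hvA), map_one]

variable {G : Type u} [Group G] [Finite G]

omit [Finite G] in
/-- The image of an elementary abelian group. -/
theorem coreImage_elementary {A : Subgroup G} (hA : Cfsg.IsElementaryAbelian 2 A) (y : G) :
    Cfsg.IsElementaryAbelian 2 (coreImage y A) := by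
  refine ⟨⟨⟨?_⟩⟩, ?_⟩
  · rintro ⟨_, a, ha, rfl⟩ ⟨_, b, hb, rfl⟩
    refine Subtype.ext ?_
    show coreProj y a * coreProj y b = coreProj y b * coreProj y a
    rw [← map_mul, ← map_mul]
    exact congrArg _ (Subtype.ext
      (congrArg Subtype.val (hA.1.is_comm.comm ⟨(a : G), ha⟩ ⟨(b : G), hb⟩) :))
  · rintro _ ⟨a, ha, rfl⟩
    rw [← map_pow, show a ^ 2 = 1 from Subtype.ext (by simpa using hA.2 a ha), map_one]

/-- `O(C(a)) ∩ C(y) ≤ O(C(y))` for an outer involution `y` which is not toral. -/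
theorem balance_outer (htf : TypeFacts.{u}) (hB : BarStruct.{u}) {S : Sylow 2 G} {A : Subgroup G}
    (hc : Cfg S A) {y : G} (hy : Outer A y) (hnt : ¬ Toral A y) {a : G} (ha : a ∈ A) (h1 : a ≠ 1) :
    Cfsg.centralizerPPrimeCore 2 a ⊓ centralizer ({y} : Set G) ≤
      Cfsg.centralizerPPrimeCore 2 y := by
  have hs : Struct (coreImage y A) := hB G S A hc y hy.1 hy.2.1
  have hay : a * y = y * a := mem_centralizer_iff.1 hy.1 a ha
  refine balance_of_kill (orderOf_eq_prime (hc.elem.2 a ha) h1) hay fun L hL Y hord hsig => ?_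
  by_cases hM : coreImage y A ≤ centralizer (L : Set (Bb y))
  · exact H40.sig_le_centralizer Cores.pPrimeCore_quotient_pPrimeCore hord hsig hL
      (Or.inl (hM (H88.Walter.coreImage_mem (mem_centralizer_singleton_iff.2 hay) ha)))
  have hle : coreImage y A ⊓ centralizer (L : Set (Bb y)) ≤
      normalizer ((coreImage y A ⊓ L : Subgroup (Bb y)) : Set (Bb y)) :=
    inf_le_right.trans ((centralizer_le (SetLike.coe_subset_coe.2 inf_le_right)).trans
      (centralizer_le_normalizer _))
  obtain ⟨v, hv, r, hr, hvr⟩ := (Coprime.mem_sup_iff hle).1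
    (hs.split L ⟨hL, hM⟩ (H88.Walter.coreImage_mem (mem_centralizer_singleton_iff.2 hay) ha))
  refine sig_le_centralizer_of_piece Cores.pPrimeCore_quotient_pPrimeCore hord hsig hL hv.2 hr.2 hvr
    (quot_oddTrivial htf (coreImage_elementary hc.elem y) hs ⟨hL, hM⟩ ?_ hv.1 hv.2)
  intro hcb hab w hw hw1 u hu huw
  by_contra hucA
  exact hnt ⟨hy, L, ⟨hL, hM⟩, hcb, hab, w, u, hw.1, hw.2, hw1, hu, huw, hucA⟩

/-- In `C(b) = O(C(b)) C(A)` an invariant odd subgroup lies in the core if its fixed points do. -/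
theorem le_core_of_fixed {S : Sylow 2 G} {A : Subgroup G} (h : TwoCfg S A) {b : G} (hb : b ∈ A)
    (hb1 : b ≠ 1) {Z : Subgroup G} (hZb : Z ≤ centralizer {b})
    (hAZ : A ≤ normalizer (Z : Set G)) (hodd : Odd (Nat.card Z))
    (hfix : Z ⊓ centralizer (A : Set G) ≤ Cfsg.centralizerPPrimeCore 2 b) :
    Z ≤ Cfsg.centralizerPPrimeCore 2 b := by
  have hcop : (Nat.card A).Coprime (Nat.card Z) := by
    rw [h.card, show (4 : ℕ) = 2 ^ 2 by norm_num]
    exact (Nat.coprime_two_left.2 hodd).pow_left 2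
  refine (Coprime.commutator_sup_centralizer hAZ hcop (Or.inr (Cfsg.Agent.S0205.result hodd))).ge.trans
    (sup_le ?_ hfix)
  refine (commutator_mono (hZb.trans (h.cover b hb hb1)) le_rfl).trans ?_
  have hAb : A ≤ centralizer {b} := fun x hx => mem_centralizer_singleton_iff.2
    (congrArg Subtype.val (h.cfg.elem.1.is_comm.comm ⟨x, hx⟩ ⟨b, hb⟩))
  refine H21.Walter.commutator_sup_le ((centralizer_le (Set.singleton_subset_iff.2 hb)).trans
    (H47.centralizer_le_normalizer_core b)) le_rfl ?_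
  exact Coprime.commutator_le_left_of_normalizer
    (hAb.trans (H47.centralizer_le_normalizer_core b))

/-- A coset `eA` of outer involutions without a toral member is impossible. -/
theorem goodStep (htf : TypeFacts.{u}) (hB : BarStruct.{u}) : GoodStep.{u} := by
  classical
  intro G _ _ S A h ⟨e, he, hnt⟩
  have hc := h.cfg
  have := hc.simple
  have hAc : ∀ x ∈ A, ∀ y ∈ A, x * y = y * x := fun x hx y hy =>
    congrArg Subtype.val (hc.elem.1.is_comm.comm ⟨x, hx⟩ ⟨y, hy⟩)
  have hAle : A ≤ centralizer (A : Set G) := fun x hx =>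
    mem_centralizer_iff.2 fun y hy => hAc y hy x hx
  have hord : ∀ a ∈ A, a ≠ 1 → orderOf a = 2 := fun a ha h1 =>
    orderOf_eq_prime (hc.elem.2 a ha) h1
  have hCA : ∀ a ∈ A, centralizer (A : Set G) ≤ centralizer ({a} : Set G) := fun a ha =>
    centralizer_le (Set.singleton_subset_iff.2 ha)
  set O := Cfsg.centralizerSubgroupPPrimeCore 2 A with hOdef
  have hOle : ∀ a ∈ A, a ≠ 1 → O ≤ Cfsg.centralizerPPrimeCore 2 a := fun a ha h1 =>
    (h.core_fix a ha h1).ge.trans inf_le_left
  have hOC : O ≤ centralizer (A : Set G) := H21.Walter.core_le A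
  have hodd : ∀ x : G, Odd (Nat.card ↥(Cfsg.centralizerPPrimeCore 2 x)) := fun x =>
    Nat.not_even_iff_odd.1 fun he' => H47.not_dvd_centralizerPPrimeCore x he'.two_dvd
  -- the outer involutions of `eA`
  have houter : ∀ a ∈ A, Outer A (e * a) := fun a ha => by
    have hcom : Commute e a := (mem_centralizer_iff.1 he.1 a ha).symm
    refine ⟨mul_mem he.1 (hAle ha), orderOf_eq_prime ?_ fun h1 => he.2.2 ?_, fun hm => he.2.2 ?_⟩
    · rw [hcom.mul_pow, hc.elem.2 a ha, mul_one, ← he.2.1, pow_orderOf_eq_one]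
    · rw [eq_inv_of_mul_eq_one_left h1]; exact inv_mem ha
    · simpa using mul_mem hm (inv_mem ha)
  -- `E = A⟨e⟩`
  have hez : Cfsg.IsElementaryAbelian 2 (zpowers e) := by
    refine ⟨inferInstance, fun x hx => ?_⟩
    obtain ⟨k, rfl⟩ := mem_zpowers_iff.1 hx
    rw [← zpow_natCast, ← zpow_mul, mul_comm, zpow_mul, zpow_natCast, ← he.2.1, pow_orderOf_eq_one,
      one_zpow]
  have hEel : Cfsg.IsElementaryAbelian 2 (A ⊔ zpowers e : Subgroup G) :=
    Fusion.Signalizer.elementary_sup hc.elem hez fun a ha x hx => by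
      obtain ⟨k, rfl⟩ := mem_zpowers_iff.1 hx
      exact ((show Commute a e from mem_centralizer_iff.1 he.1 a ha).zpow_right k).eq
  set E := A ⊔ zpowers e with hE
  have hEc : E ≤ centralizer (A : Set G) := sup_le hAle (zpowers_le.2 he.1)
  have hcases : ∀ g ∈ E, g ∉ A → ∃ a ∈ A, g = e * a := by
    intro g hg hgA
    obtain ⟨a, ha, x, hx, rfl⟩ := (Coprime.mem_sup_iff ((zpowers_le.2 he.1).trans
      (centralizer_le_normalizer _))).1 hg
    obtain ⟨k, rfl⟩ := mem_zpowers_iff.1 hx
    have he2 : e ^ (2 : ℤ) = 1 := by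
      rw [show (2 : ℤ) = ((2 : ℕ) : ℤ) from rfl, zpow_natCast, ← he.2.1, pow_orderOf_eq_one]
    rcases Int.even_or_odd k with ⟨r, rfl⟩ | ⟨r, rfl⟩
    · refine absurd ?_ hgA
      rw [← two_mul, zpow_mul, he2, one_zpow, mul_one]
      exact ha
    · refine ⟨a, ha, ?_⟩
      rw [zpow_add_one, zpow_mul, he2, one_zpow, one_mul]
      exact mem_centralizer_iff.1 he.1 a ha
  have hE8 : 2 ^ 3 ≤ Nat.card E := by
    have hlt : A < E := lt_of_le_of_ne le_sup_left fun h' =>
      he.2.2 (h' ▸ mem_sup_right (mem_zpowers e))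
    obtain ⟨n, hn⟩ := IsPGroup.iff_card.1 (H47.isPGroup_of_elementaryAbelian hEel)
    have h4 : Nat.card A < Nat.card E := lt_of_le_of_ne (card_le_of_le hlt.le) fun h' =>
      hlt.ne (eq_of_le_of_card_ge hlt.le h'.ge)
    rw [h.card, hn, show (4 : ℕ) = 2 ^ 2 by norm_num,
      Nat.pow_lt_pow_iff_right (by norm_num : 1 < 2)] at h4
    rw [hn]
    exact Nat.pow_le_pow_right (by norm_num) h4
  -- the values outside `A`
  set Yc : G → Subgroup G := fun y => ⁅Cfsg.centralizerPPrimeCore 2 y, A⁆ with hYdef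
  set θ : G → Subgroup G := fun g => if g ∈ A then Cfsg.centralizerPPrimeCore 2 g
    else Yc g ⊔ (O ⊓ centralizer {g}) with hθ
  have θA : ∀ a ∈ A, θ a = Cfsg.centralizerPPrimeCore 2 a := fun a ha => if_pos ha
  have θO : ∀ g, g ∉ A → θ g = Yc g ⊔ (O ⊓ centralizer {g}) := fun g hg => if_neg hg
  have hAK : ∀ y, Outer A y → A ≤ normalizer (Cfsg.centralizerPPrimeCore 2 y : Set G) :=
    fun y hy => (le_trans (fun a ha => mem_centralizer_singleton_iff.2
      (mem_centralizer_iff.1 hy.1 a ha)) (H47.centralizer_le_normalizer_core y))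
  have hYle : ∀ y, Outer A y → Yc y ≤ Cfsg.centralizerPPrimeCore 2 y := fun y hy =>
    Coprime.commutator_le_left_of_normalizer (hAK y hy)
  have hQn : ∀ y, O ⊓ centralizer {y} ≤ normalizer (Yc y : Set G) := fun y u hu =>
    H21.Walter.conj_mem_comm (H47.centralizer_le_normalizer_core y hu.2)
      (centralizer_le_normalizer _ (hOC hu.1))
  -- `a → b`
  have hbal : ∀ a ∈ A, a ≠ 1 → ∀ b ∈ A, b ≠ 1 →
      Cfsg.centralizerPPrimeCore 2 a ⊓ centralizer {b} ≤ Cfsg.centralizerPPrimeCore 2 b := by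
    intro a ha h1 b hb hb1
    refine le_core_of_fixed h hb hb1 inf_le_right ?_
      ((hodd a).of_dvd_nat (card_dvd_of_le inf_le_left)) ?_
    · exact (le_inf (hAle.trans (hCA a ha) |>.trans (H47.centralizer_le_normalizer_core a))
        (hAle.trans (hCA b hb) |>.trans le_normalizer)).trans inf_normalizer_le_normalizer_inf
    · exact (inf_le_inf_right _ inf_le_left).trans ((h.core_fix a ha h1).le.trans (hOle b hb hb1))
  -- `y → a`
  have hya : ∀ y, Outer A y → ∀ a ∈ A, a ≠ 1 →
      (Yc y ⊔ (O ⊓ centralizer {y})) ⊓ centralizer {a} ≤ Cfsg.centralizerPPrimeCore 2 a := by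
    rintro y hy a ha h1 z ⟨hz, hza⟩
    obtain ⟨w, hw, u, hu, rfl⟩ := (Coprime.mem_sup_iff (hQn y)).1 hz
    have huK := hOle a ha h1 hu.1
    refine mul_mem ?_ huK
    have hwa : w ∈ centralizer ({a} : Set G) := by
      simpa using mul_mem (show w * u ∈ centralizer ({a} : Set G) from hza)
        (inv_mem (H47.centralizerPPrimeCore_le a huK))
    have hYodd : Odd (Nat.card ↥(Yc y)) := (hodd y).of_dvd_nat (card_dvd_of_le (hYle y hy))
    have hAY : A ≤ normalizer (Yc y : Set G) := fun b hb =>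
      H21.Walter.conj_mem_comm (hAK y hy hb) (le_normalizer hb)
    refine le_core_of_fixed h ha h1 (Z := Yc y ⊓ centralizer {a}) inf_le_right
      ((le_inf hAY (hAle.trans (hCA a ha) |>.trans le_normalizer)).trans
        inf_normalizer_le_normalizer_inf)
      (hYodd.of_dvd_nat (card_dvd_of_le inf_le_left)) ?_ ⟨hw, hwa⟩
    refine (inf_le_inf_right _ inf_le_left).trans (le_trans ?_ (hOle a ha h1))
    have hcop : ∀ K : Subgroup G, Odd (Nat.card K) → (Nat.card A).Coprime (Nat.card K) :=
      fun K hK => by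
        rw [h.card, show (4 : ℕ) = 2 ^ 2 by norm_num]
        exact (Nat.coprime_two_left.2 hK).pow_left 2
    rw [Components.goldschmidt_generation hc.elem.1 le_rfl hAY (hcop _ hYodd)
      (Cfsg.Agent.S0205.result hYodd) (Coprime.commutator_commutator_eq (hAK y hy)
        (hcop _ (hodd y)) (Or.inr (Cfsg.Agent.S0205.result (hodd y))))]
    refine iSup₂_le fun B₀ ⟨hle, b, hb, hBb⟩ => ?_
    obtain ⟨⟨a', ha'⟩, ha'1⟩ : ∃ x : B₀, x ≠ 1 := by
      refine B₀.ne_bot_iff_exists_ne_one.1 fun h0 => ?_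
      rw [h0, bot_sup_eq] at hBb
      have h4 := h.card
      rw [← hBb, Nat.card_zpowers] at h4
      have := Nat.le_of_dvd (by norm_num) (orderOf_dvd_of_pow_eq_one (hc.elem.2 b hb))
      omega
    have ha'1' : a' ≠ 1 := fun h' => ha'1 (Subtype.ext h')
    refine le_trans (le_inf ?_ (inf_le_left.trans inf_le_right)) (h.core_fix a' (hle ha') ha'1').le
    refine inf_le_right.trans ((commutator_mono (inf_le_right.trans (centralizer_le
      (Set.singleton_subset_iff.2 ha'))) le_rfl).trans ?_)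
    refine (commutator_mono (h.cover a' (hle ha') ha'1') le_rfl).trans ?_
    refine H21.Walter.commutator_sup_le ((hCA a' (hle ha')).trans
      (H47.centralizer_le_normalizer_core a')) le_rfl ?_
    exact Coprime.commutator_le_left_of_normalizer
      ((hAle.trans (hCA a' (hle ha'))).trans (H47.centralizer_le_normalizer_core a'))
  -- `a → y`
  have hay : ∀ y, Outer A y → ¬ Toral A y → ∀ a ∈ A, a ≠ 1 →
      Cfsg.centralizerPPrimeCore 2 a ⊓ centralizer {y} ≤ Yc y ⊔ (O ⊓ centralizer {y}) := by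
    intro y hy hny a ha h1
    set Z := Cfsg.centralizerPPrimeCore 2 a ⊓ centralizer {y} with hZ
    have hyA : A ≤ centralizer ({y} : Set G) := fun b hb =>
      mem_centralizer_singleton_iff.2 (mem_centralizer_iff.1 hy.1 b hb)
    have hAZ : A ≤ normalizer (Z : Set G) := (le_inf
      ((hAle.trans (hCA a ha)).trans (H47.centralizer_le_normalizer_core a))
      (hyA.trans le_normalizer)).trans inf_normalizer_le_normalizer_inf
    have hZodd : Odd (Nat.card Z) := (hodd a).of_dvd_nat (card_dvd_of_le inf_le_left)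
    refine (Coprime.commutator_sup_centralizer hAZ ?_
      (Or.inr (Cfsg.Agent.S0205.result hZodd))).ge.trans (sup_le_sup ?_ ?_)
    · rw [h.card, show (4 : ℕ) = 2 ^ 2 by norm_num]
      exact (Nat.coprime_two_left.2 hZodd).pow_left 2
    · exact commutator_mono (balance_outer htf hB hc hy hny ha h1) le_rfl
    · exact le_inf ((inf_le_inf_right _ inf_le_left).trans (h.core_fix a ha h1).le)
        (inf_le_left.trans inf_le_right)
  -- the functor
  have hsf : Cfsg.IsSolvableSignalizerFunctor 2 E θ := by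
    have hval : ∀ g ∈ E, θ g ≤ centralizer {g} ∧ ¬ 2 ∣ Nat.card (θ g) := by
      intro g hg
      by_cases hgA : g ∈ A
      · rw [θA g hgA]
        exact ⟨H47.centralizerPPrimeCore_le g, H47.not_dvd_centralizerPPrimeCore g⟩
      obtain ⟨a, ha, rfl⟩ := hcases g hg hgA
      rw [θO _ hgA]
      refine ⟨sup_le ((hYle _ (houter a ha)).trans (H47.centralizerPPrimeCore_le _)) inf_le_right,
        ?_⟩
      intro h2
      rw [sup_comm] at h2
      have h3 := h2.trans (H77.PPAb.card_sup_dvd_of_normalizes (hQn _))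
      rcases (Nat.Prime.dvd_mul Nat.prime_two).1 h3 with h4 | h4
      · exact H21.Walter.not_dvd_core (p := 2) A (h4.trans (card_dvd_of_le inf_le_left))
      · exact H47.not_dvd_centralizerPPrimeCore _ (h4.trans (card_dvd_of_le (hYle _ (houter a ha))))
    refine ⟨⟨fun g hg _ => (hval g hg).1, fun g hg _ => (hval g hg).2, ?_, ?_⟩,
      fun g hg _ => Cfsg.Agent.S0205.result (Nat.not_even_iff_odd.1 fun h' =>
        (hval g hg).2 h'.two_dvd)⟩
    · intro g hg _ b hb x hx
      have hbg : b ∈ centralizer ({g} : Set G) := mem_centralizer_singleton_iff.2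
        (congrArg Subtype.val (hEel.1.is_comm.comm ⟨b, hb⟩ ⟨g, hg⟩))
      refine Coprime.conj_mem ?_ hx
      by_cases hgA : g ∈ A
      · rw [θA g hgA]; exact H47.centralizer_le_normalizer_core g hbg
      rw [θO g hgA]
      refine Components.inf_normalizer_le_normalizer_sup _ _ ⟨H21.Walter.conj_mem_comm
        (H47.centralizer_le_normalizer_core g hbg) (centralizer_le_normalizer _ (hEc hb)),
        inf_normalizer_le_normalizer_inf ⟨?_, le_normalizer hbg⟩⟩
      exact Components.le_normalizer_map_subtype _ (hEc hb)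
    · intro g hg hg1 k hk hk1
      by_cases hgA : g ∈ A <;> by_cases hkA : k ∈ A
      · rw [θA g hgA, θA k hkA]; exact hbal g hgA hg1 k hkA hk1
      · obtain ⟨a, ha, rfl⟩ := hcases k hk hkA
        rw [θA g hgA, θO _ hkA]; exact hay _ (houter a ha) (hnt a ha) g hgA hg1
      · obtain ⟨a, ha, rfl⟩ := hcases g hg hgA
        rw [θA k hkA, θO _ hgA]; exact hya _ (houter a ha) k hkA hk1
      · obtain ⟨a, ha, rfl⟩ := hcases g hg hgA
        obtain ⟨b, hb, rfl⟩ := hcases k hk hkA
        rcases eq_or_ne a b with rfl | hab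
        · exact inf_le_left
        rintro x ⟨hx, hxz⟩
        rw [θO _ hkA]
        have hd1 : a⁻¹ * b ≠ 1 := fun h' => hab (inv_mul_eq_one.1 h')
        have hxy : Commute x (e * a) := mem_centralizer_singleton_iff.1 ((hval _ hg).1 hx)
        have hxd : x ∈ centralizer ({a⁻¹ * b} : Set G) := by
          refine mem_centralizer_singleton_iff.2 ?_
          rw [show a⁻¹ * b = (e * a)⁻¹ * (e * b) by group]
          exact (hxy.inv_right.mul_right (mem_centralizer_singleton_iff.1 hxz)).eq
        have hdA := mul_mem (inv_mem ha) hb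
        refine hay _ (houter b hb) (hnt b hb) _ hdA hd1 ⟨?_, hxz⟩
        rw [θO _ hgA] at hx
        exact hya _ (houter a ha) _ hdA hd1 ⟨hx, hxd⟩
  obtain ⟨hWodd, -, -⟩ :=
    Signalizer.closure_spec_of_closed (Signalizer.twoColourClosed 2) hEel hE8 hsf
  set K := Cfsg.signalizerClosure A fun x => Cfsg.centralizerPPrimeCore 2 x with hK
  have hKW : K ≤ Cfsg.signalizerClosure E θ := iSup_le fun a => by
    show Cfsg.centralizerPPrimeCore 2 a.1 ≤ _
    rw [← θA a.1 a.2.1]
    exact le_iSup (fun y : {y : G // y ∈ E ∧ y ≠ 1} => θ y.1)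
      ⟨a.1, mem_sup_left a.2.1, a.2.2⟩
  have hKodd : ¬ 2 ∣ Nat.card K := fun h' => hWodd (h'.trans (card_dvd_of_le hKW))
  have hθK : ∀ a ∈ A, a ≠ 1 → Cfsg.centralizerPPrimeCore 2 a ≤ K := fun a ha h1 =>
    le_iSup (fun y : {y : G // y ∈ A ∧ y ≠ 1} => Cfsg.centralizerPPrimeCore 2 y.1) ⟨a, ha, h1⟩
  have hNK : normalizer (A : Set G) ≤ normalizer (K : Set G) := by
    intro n hn
    refine Coprime.mem_normalizer_of_map_conj (eq_of_le_of_card_ge ?_
      (by rw [Coprime.card_map_conj]))
    rw [hK, Cfsg.signalizerClosure, Subgroup.map_iSup]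
    refine iSup_le fun a => ?_
    rw [← Fusion.Signalizer.centralizerPPrimeCore_conj]
    exact hθK _ ((mem_normalizer_iff.1 hn a.1).1 a.2.1) fun he' => a.2.2 (by
      simpa [mul_assoc] using congrArg (fun t => n⁻¹ * t * n) he')
  obtain ⟨M, hMtop, hM⟩ : ∃ M : Subgroup G, M ≠ ⊤ ∧
      ∀ a ∈ A, a ≠ 1 → centralizer ({a} : Set G) ≤ M := by
    by_cases hK1 : K = ⊥
    · refine ⟨normalizer (A : Set G), fun he' => ?_, fun a ha h1 => (h.cover a ha h1).trans
        (sup_le ((hθK a ha h1).trans (hK1.le.trans bot_le)) (centralizer_le_normalizer _))⟩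
      have hAn : A.Normal := normalizer_eq_top_iff.1 he'
      rcases IsSimpleGroup.eq_bot_or_eq_top_of_normal A hAn with h' | h'
      · exact hc.ne_bot h'
      · exact hc.nonab ⟨⟨fun x y => hAc x (h' ▸ mem_top x) y (h' ▸ mem_top y)⟩⟩
    · refine ⟨normalizer (K : Set G), fun he' => ?_, fun a ha h1 => (h.cover a ha h1).trans
        (sup_le ((hθK a ha h1).trans le_normalizer) ((centralizer_le_normalizer _).trans hNK))⟩
      have hKn : K.Normal := normalizer_eq_top_iff.1 he'
      rcases IsSimpleGroup.eq_bot_or_eq_top_of_normal K hKn with h' | h'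
      · exact hK1 h'
      · apply hKodd
        rw [h', card_top, ← he.2.1]
        exact orderOf_dvd_natCard e
  refine hc.noSE (Cfsg.Agent.S1174.result S A hc.ne_bot hc.closed fun he' => hMtop (top_le_iff.1 ?_))
  rw [← he']
  exact iSup_le fun t => hM t.1 t.2.1 fun h1 => by
    have h2 := t.2.2
    rw [h1, orderOf_one] at h2
    omega

end Cfsg.Agent.H62.WA
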