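import Cfsg.Agent.H77.WA.Defs
import Cfsg.Agent.H40.BalanceConstrained
import Cfsg.Agent.Signalizer.Main
import Cfsg.Agent.Signalizer.Corollaries
import Cfsg.Agent.Fusion.SignalizerTrivial
import Cfsg.Agent.Fusion.TransferControl
import Cfsg.Agent.S0205
import Cfsg.Agent.S1174

/-!
# Strongly closed abelian 2-subgroups: no met component

When no component of a centralizer modulo its core is moved by `A`, the cores of the centralizers
form a balanced functor on `A`; the normalizer of its closure, or of `A` when that closure is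
trivial, contains all `C(a)`, so there is a strongly embedded subgroup.
-/

set_option autoImplicit false

namespace Cfsg.Agent.H62.WA

open Subgroup Cfsg.Agent
open Cfsg.Agent.H88.Walter (Bb)
open Cfsg.Agent.H21.Walter (coreImage coreProj)
open Cfsg.Agent.H77.WA

universe u

local instance fact_two_noMet : Fact (Nat.Prime 2) := ⟨Nat.prime_two⟩

variable {G : Type u} [Group G] [Finite G]

/-- Balance at `b` when the central signalizers of the image of `a` in `C(b)` modulo its core
centralize every component. -/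
theorem balance_of_kill {p : ℕ} [hp : Fact p.Prime] {a b : G} (ha : orderOf a = p)
    (hab : a * b = b * a)
    (hkill : ∀ L : Subgroup (↥(centralizer ({b} : Set G)) ⧸
        Cfsg.pPrimeCore p ↥(centralizer ({b} : Set G))), Cfsg.IsComponent L →
      ∀ Y : Subgroup (↥(centralizer ({b} : Set G)) ⧸
          Cfsg.pPrimeCore p ↥(centralizer ({b} : Set G))),
      orderOf (QuotientGroup.mk' (Cfsg.pPrimeCore p ↥(centralizer ({b} : Set G)))
        ⟨a, mem_centralizer_singleton_iff.mpr hab⟩) = p →
      H40.IsCentralSignalizer p (QuotientGroup.mk' (Cfsg.pPrimeCore p ↥(centralizer ({b} : Set G)))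
        ⟨a, mem_centralizer_singleton_iff.mpr hab⟩) Y → Y ≤ centralizer (L : Set _)) :
    Cfsg.centralizerPPrimeCore p a ⊓ centralizer ({b} : Set G) ≤
      Cfsg.centralizerPPrimeCore p b := by
  set C := centralizer ({b} : Set G)
  let a₁ : ↥C := ⟨a, mem_centralizer_singleton_iff.mpr hab⟩
  let π := QuotientGroup.mk' (Cfsg.pPrimeCore p ↥C)
  have hap : H40.IsPElem p a := ⟨1, by rw [pow_one, ← ha, pow_orderOf_eq_one]⟩
  have ha₁ : H40.IsPElem p a₁ := by
    obtain ⟨k, hk⟩ := hap
    exact ⟨k, Subtype.ext (by simpa using hk)⟩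
  have hX := H40.isCentralSignalizer_core hap
  set X : Subgroup ↥C := (Cfsg.centralizerPPrimeCore p a).subgroupOf C
  have hXC : X ≤ centralizer ({a₁} : Set ↥C) := fun v hv =>
    mem_centralizer_singleton_iff.mpr
      (Subtype.ext (mem_centralizer_singleton_iff.mp (hX.le_centralizer hv)))
  have hXn : centralizer ({a₁} : Set ↥C) ≤ normalizer (X : Set ↥C) := fun v hv => by
    have h1 : (v : G) ∈ centralizer ({a} : Set G) :=
      mem_centralizer_singleton_iff.mpr (congrArg Subtype.val (mem_centralizer_singleton_iff.mp hv))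
    rw [mem_normalizer_iff]
    intro w
    exact mem_normalizer_iff.mp (hX.normalized h1) w
  have hXc : (Nat.card X).Coprime p :=
    hX.coprime.coprime_dvd_left (by
      rw [← card_map_of_injective C.subtype_injective]
      exact card_dvd_of_le (by rintro _ ⟨v, hv, rfl⟩; exact hv))
  have hlift : centralizer ({π a₁} : Set _) ≤ (centralizer ({a₁} : Set ↥C)).map π := by
    rw [← H40.centralizer_zpowers_eq a₁, Cores.map_centralizer_of_coprime _ Cores.coprime_card_pPrimeCore
      (H40.isPGroup_zpowers ha₁), MonoidHom.map_zpowers, H40.centralizer_zpowers_eq]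
  have h1 : π a₁ ≠ 1 := fun h => by
    have h2 : a₁ = 1 := H40.eq_one_of_isPElem_of_mem ha₁ ((QuotientGroup.eq_one_iff a₁).1 h)
      Cores.coprime_card_pPrimeCore
    have h3 : a = 1 := congrArg Subtype.val h2
    rw [h3, orderOf_one] at ha
    exact hp.out.one_lt.ne ha
  have hord : orderOf (π a₁) = p := orderOf_eq_prime (by
    rw [← map_pow, show a₁ ^ p = 1 from Subtype.ext (by simp [a₁, ← ha, pow_orderOf_eq_one]),
      map_one]) h1
  have hsig := H40.isCentralSignalizer_core (ha₁.map π)
  have hle := H40.map_le_centralizerPPrimeCore_of_lift π hlift hXC hXn hXc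
  have hbot : X.map π = ⊥ := H40.eq_bot_of_centralizes Cores.pPrimeCore_quotient_pPrimeCore
    (hXc.coprime_dvd_left (card_map_dvd X π)) (hle.trans (H40.sig_le_centralizer_pCore hsig))
    fun L hL => hle.trans (hkill L hL _ hord hsig)
  rw [Subgroup.map_eq_bot_iff, QuotientGroup.ker_mk'] at hbot
  rintro v ⟨hv, hvC⟩
  exact ⟨⟨v, hvC⟩, hbot hv, rfl⟩

/-- Balance at `b` when the image of `a` centralizes every component of `C(b)` modulo its core. -/
theorem balance_of_fixed {p : ℕ} [hp : Fact p.Prime] {a b : G} (ha : orderOf a = p)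
    (hab : a * b = b * a)
    (hfix : ∀ L : Subgroup (↥(centralizer ({b} : Set G)) ⧸
        Cfsg.pPrimeCore p ↥(centralizer ({b} : Set G))), Cfsg.IsComponent L →
      QuotientGroup.mk' (Cfsg.pPrimeCore p ↥(centralizer ({b} : Set G)))
        ⟨a, mem_centralizer_singleton_iff.mpr hab⟩ ∈ centralizer (L : Set _)) :
    Cfsg.centralizerPPrimeCore p a ⊓ centralizer ({b} : Set G) ≤
      Cfsg.centralizerPPrimeCore p b :=
  balance_of_kill ha hab fun L hL _ hord hsig =>
    H40.sig_le_centralizer Cores.pPrimeCore_quotient_pPrimeCore hord hsig hL (Or.inl (hfix L hL))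

/-- If the image of `A` is normal in `C(a)` modulo its core, a subgroup containing the core and
`N(A) ∩ C(a)` contains `C(a)`. -/
theorem centralizer_le_of_coreImage_normal {A M : Subgroup G} {a : G} (hA : IsPGroup 2 A)
    (hAa : A ≤ centralizer {a}) (hn : (coreImage a A).Normal)
    (hK : Cfsg.centralizerPPrimeCore 2 a ≤ M)
    (hN : centralizer {a} ⊓ normalizer (A : Set G) ≤ M) : centralizer {a} ≤ M := by
  intro c hc
  have hAp : IsPGroup 2 ↥(A.subgroupOf (centralizer ({a} : Set G))) := hA.comap_subtype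
  have h : normalizer ((coreImage a A : Subgroup (Bb a)) : Set (Bb a)) =
      (normalizer ((A.subgroupOf (centralizer ({a} : Set G))) : Set _)).map (coreProj a) :=
    Fusion.normalizer_map_mk'_of_coprime Cores.not_dvd_card_pPrimeCore hAp
  have hc' : coreProj a ⟨c, hc⟩ ∈
      (normalizer ((A.subgroupOf (centralizer ({a} : Set G))) : Set _)).map (coreProj a) := by
    rw [← h, (normalizer_eq_top_iff (H := coreImage a A)).2 hn]
    exact mem_top _
  obtain ⟨n, hn', hn2⟩ := hc'
  have hnA : (n : G) ∈ normalizer (A : Set G) := by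
    rw [mem_normalizer_iff]
    intro x
    refine ⟨fun hx => (mem_normalizer_iff.1 hn' ⟨x, hAa hx⟩).1 hx, fun hx => ?_⟩
    have hxC : x ∈ centralizer ({a} : Set G) := by
      have h3 := mul_mem (mul_mem (inv_mem n.2) (hAa hx)) n.2
      simpa [mul_assoc] using h3
    exact (mem_normalizer_iff.1 hn' ⟨x, hxC⟩).2 hx
  have hker : coreProj a (⟨c, hc⟩ * n⁻¹) = 1 := by
    rw [map_mul, map_inv, hn2, mul_inv_cancel]
  have hcn : c * (n : G)⁻¹ ∈ Cfsg.centralizerPPrimeCore 2 a :=
    H21.Walter.coreProj_eq_one_iff.1 hker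
  simpa using M.mul_mem (hK hcn) (hN ⟨n.2, hnA⟩)

/-- Without met components a strongly closed `A` of order at least 8 gives a strongly embedded
subgroup, so there is no such configuration. -/
theorem noMetStep (hB : BarStruct.{u}) : NoMetStep.{u} := by
  intro G _ _ S A h h8 hmet
  have := h.simple
  have hAc : ∀ x ∈ A, ∀ y ∈ A, x * y = y * x := fun x hx y hy =>
    congrArg Subtype.val (h.elem.1.is_comm.comm ⟨x, hx⟩ ⟨y, hy⟩)
  have hAcent : ∀ a ∈ A, A ≤ centralizer ({a} : Set G) := fun a ha x hx =>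
    mem_centralizer_singleton_iff.2 (hAc x hx a ha)
  have hord : ∀ a ∈ A, a ≠ 1 → orderOf a = 2 := fun a ha h1 =>
    orderOf_eq_prime (h.elem.2 a ha) h1
  have hst : ∀ a ∈ A, a ≠ 1 → Struct (coreImage a A) := fun a ha h1 =>
    hB G S A h a (mem_centralizer_iff.2 fun y hy => hAc y hy a ha) (hord a ha h1)
  have hcomp : ∀ b ∈ A, b ≠ 1 → ∀ L : Subgroup (Bb b), Cfsg.IsComponent L →
      coreImage b A ≤ centralizer (L : Set (Bb b)) := fun b hb hb1 L hL => by
    by_contra hc
    exact hmet b hb hb1 L ⟨hL, hc⟩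
  have hnormal : ∀ a ∈ A, a ≠ 1 → (coreImage a A).Normal := fun a ha h1 => by
    have : IsEmpty {L : Subgroup (Bb a) // Met (coreImage a A) L} :=
      ⟨fun L => hmet a ha h1 L.1 L.2⟩
    have h2 := (hst a ha h1).normal
    rwa [iSup_of_empty, sup_bot_eq] at h2
  have hbal : ∀ a ∈ A, a ≠ 1 → ∀ b ∈ A, b ≠ 1 →
      Cfsg.centralizerPPrimeCore 2 a ⊓ centralizer ({b} : Set G) ≤
        Cfsg.centralizerPPrimeCore 2 b := fun a ha h1 b hb hb1 =>
    balance_of_fixed (hord a ha h1) (hAc a ha b hb) fun L hL =>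
      hcomp b hb hb1 L hL (H88.Walter.coreImage_mem _ ha)
  -- the functor and its closure
  set θ : G → Subgroup G := fun x => Cfsg.centralizerPPrimeCore 2 x with hθ
  have hsf : Cfsg.IsSolvableSignalizerFunctor 2 A θ := by
    refine ⟨⟨fun a _ _ => H47.centralizerPPrimeCore_le a,
      fun a _ _ => H47.not_dvd_centralizerPPrimeCore a, fun a ha h1 b hb x hx => ?_, hbal⟩,
      fun a _ _ => Cfsg.Agent.S0205.result (Nat.not_even_iff_odd.1 fun he =>
        H47.not_dvd_centralizerPPrimeCore (p := 2) a he.two_dvd)⟩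
    have h2 := Fusion.Signalizer.centralizerPPrimeCore_conj (p := 2) a b
    rw [show b * a * b⁻¹ = a by rw [hAc b hb a ha, mul_inv_cancel_right]] at h2
    show b * x * b⁻¹ ∈ Cfsg.centralizerPPrimeCore 2 a
    rw [h2]
    exact ⟨x, hx, rfl⟩
  obtain ⟨hWodd, -, -⟩ := Signalizer.closure_spec_of_closed (Signalizer.twoColourClosed 2) h.elem
    (by simpa using h8) hsf
  set W := Cfsg.signalizerClosure A θ with hW
  have hθW : ∀ a ∈ A, a ≠ 1 → θ a ≤ W := fun a ha h1 =>
    le_iSup (fun y : {y : G // y ∈ A ∧ y ≠ 1} => θ y.1) ⟨a, ha, h1⟩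
  have hNW : normalizer (A : Set G) ≤ normalizer (W : Set G) := by
    intro n hn
    refine Coprime.mem_normalizer_of_map_conj (eq_of_le_of_card_ge ?_
      (by rw [Coprime.card_map_conj]))
    rw [hW, Cfsg.signalizerClosure, Subgroup.map_iSup]
    refine iSup_le fun a => ?_
    rw [hθ, ← Fusion.Signalizer.centralizerPPrimeCore_conj]
    exact hθW _ ((mem_normalizer_iff.1 hn a.1).1 a.2.1) fun he => a.2.2 (by
      simpa [mul_assoc] using congrArg (fun t => n⁻¹ * t * n) he)
  -- a proper subgroup containing every `C(a)`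
  obtain ⟨M, hMtop, hM⟩ : ∃ M : Subgroup G, M ≠ ⊤ ∧
      ∀ a ∈ A, a ≠ 1 → centralizer ({a} : Set G) ≤ M := by
    by_cases hW1 : W = ⊥
    · refine ⟨normalizer (A : Set G), fun he => ?_, fun a ha h1 =>
        centralizer_le_of_coreImage_normal (H47.isPGroup_of_elementaryAbelian h.elem) (hAcent a ha)
          (hnormal a ha h1) ((hθW a ha h1).trans (hW1.le.trans bot_le)) inf_le_right⟩
      have hAn : A.Normal := (normalizer_eq_top_iff (H := A)).1 he
      rcases IsSimpleGroup.eq_bot_or_eq_top_of_normal A hAn with h' | h'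
      · exact h.ne_bot h'
      · exact h.nonab ⟨⟨fun x y => hAc x (h' ▸ mem_top x) y (h' ▸ mem_top y)⟩⟩
    · refine ⟨normalizer (W : Set G), fun he => ?_, fun a ha h1 =>
        centralizer_le_of_coreImage_normal (H47.isPGroup_of_elementaryAbelian h.elem) (hAcent a ha)
          (hnormal a ha h1) ((hθW a ha h1).trans le_normalizer) (inf_le_right.trans hNW)⟩
      have hWn : W.Normal := (normalizer_eq_top_iff (H := W)).1 he
      rcases IsSimpleGroup.eq_bot_or_eq_top_of_normal W hWn with h' | h'
      · exact hW1 h'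
      · obtain ⟨⟨a, ha⟩, ha1⟩ := A.ne_bot_iff_exists_ne_one.1 h.ne_bot
        apply hWodd
        rw [h', card_top, ← hord a ha fun he' => ha1 (Subtype.ext he')]
        exact orderOf_dvd_natCard a
  refine h.noSE (Cfsg.Agent.S1174.result S A h.ne_bot h.closed fun he => hMtop (top_le_iff.1 ?_))
  rw [← he]
  exact iSup_le fun t => hM t.1 t.2.1 fun h1 => by
    have h2 := t.2.2
    rw [h1, orderOf_one] at h2
    omega

end Cfsg.Agent.H62.WA
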